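import Mathlib
import Cfsg.Prelude.Def_Blocks
import Cfsg.Prelude.Def_BrauerPairs
import Cfsg.Agent.Lib.helper3.BrauerMap3
import Cfsg.Agent.Lib.helper3.NormalAvg
import Cfsg.Agent.Lib.helper3.SecMain13

/-!
# The Brauer functional of the idempotent of a normal `p'`-subgroup

`unif H` is the coefficient function of `e_H = |H|⁻¹ ∑_{h ∈ H} h`.  For a `p`-subgroup `P`
normalizing the `p'`-subgroup `H`, the Brauer functional at `P` of `e_H` is congruent to `1` or
equal to `0` according as `C_H(P)` lies in the kernel of the character or not.  Together with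
the multiplicativity of the Brauer functional this transfers "`H` is in the kernel" between a
block and the blocks occurring in its Brauer-map image.
-/

set_option autoImplicit false
set_option linter.style.haveILetI false
set_option linter.unusedSectionVars false

namespace Cfsg.Agent.H2.BKer

open Cfsg Cfsg.Agent.Lib.helper3.Block Cfsg.Agent.Lib.helper3.LocalM Cfsg.Agent.Lib.helper3.Irr
open Cfsg.Agent.Lib.helper3.CharBasic Cfsg.Agent.Lib.helper3.Central
open scoped ComplexConjugate

variable {G : Type*} [Group G] [Fintype G] {M : Ideal AlgInt}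

open Classical in
/-- The coefficient function of the idempotent `|H|⁻¹ ∑_{h ∈ H} h`. -/
noncomputable def unif (H : Subgroup G) (g : G) : ℂ :=
  if g ∈ H then (Nat.card H : ℂ)⁻¹ else 0

theorem unif_of_mem (H : Subgroup G) {g : G} (hg : g ∈ H) : unif H g = (Nat.card H : ℂ)⁻¹ := by
  unfold unif
  rw [if_pos hg]

theorem unif_of_notMem (H : Subgroup G) {g : G} (hg : g ∉ H) : unif H g = 0 := by
  unfold unif
  rw [if_neg hg]

theorem unif_conj (H N : Subgroup G) (hN : ∀ n ∈ N, ∀ h ∈ H, n * h * n⁻¹ ∈ H) (n : G)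
    (hn : n ∈ N) (g : G) : unif H (n * g * n⁻¹) = unif H g := by
  have hiff : n * g * n⁻¹ ∈ H ↔ g ∈ H := by
    constructor
    · intro h
      have := hN n⁻¹ (N.inv_mem hn) _ h
      rwa [show n⁻¹ * (n * g * n⁻¹) * n⁻¹⁻¹ = g by group] at this
    · intro h
      exact hN n hn g h
  by_cases hg : g ∈ H
  · rw [unif_of_mem H hg, unif_of_mem H (hiff.mpr hg)]
  · rw [unif_of_notMem H hg, unif_of_notMem H (fun h => hg (hiff.mp h))]

theorem memLocalRing_unif {p : ℕ} (hM : IsPModular p M) (H : Subgroup G)
    (hH : ¬ p ∣ Nat.card H) (g : G) : MemLocalRing M (unif H g) := by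
  haveI hMp := isPrime_of_isPModular hM
  by_cases hg : g ∈ H
  · rw [unif_of_mem H hg]
    refine ⟨1, (Nat.card H : AlgInt), ?_, ?_⟩
    · rw [natCast_mem_iff hM]
      exact hH
    · push_cast
      rw [one_div]
  · rw [unif_of_notMem H hg]
    exact memLocalRing_of_integral isIntegral_zero

open Classical in
/-- The Brauer functional of `e_H`. -/
theorem brauerOmega_unif (P H : Subgroup G) [Fintype (Subgroup.centralizer (P : Set G))]
    (hHC : ∀ c ∈ Subgroup.centralizer (P : Set G), ∀ h ∈ H, c * h * c⁻¹ ∈ H)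
    (ξ : IrrCharacter (Subgroup.centralizer (P : Set G))) :
    brauerOmega P (unif H) (ξ : Subgroup.centralizer (P : Set G) → ℂ)
      = if (∀ c : Subgroup.centralizer (P : Set G), (c : G) ∈ H →
            (ξ : Subgroup.centralizer (P : Set G) → ℂ) c
              = (ξ : Subgroup.centralizer (P : Set G) → ℂ) 1)
        then (Nat.card (H.subgroupOf (Subgroup.centralizer (P : Set G))) : ℂ) / (Nat.card H : ℂ)
        else 0 := by
  haveI : (H.subgroupOf (Subgroup.centralizer (P : Set G))).Normal := by
    constructor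
    intro n hn g
    rw [Subgroup.mem_subgroupOf] at hn ⊢
    have := hHC (g : G) g.2 _ hn
    simpa using this
  haveI : Fintype (H.subgroupOf (Subgroup.centralizer (P : Set G))) := Fintype.ofFinite _
  rw [brauerOmega_eq_sum]
  have hξ1 : (ξ : Subgroup.centralizer (P : Set G) → ℂ) 1 ≠ 0 := by
    obtain ⟨d, hd, -, hpos⟩ := irr_degree_dvd_card ξ.2
    rw [hd]
    exact_mod_cast hpos.ne'
  have h1 : ∑ x : Subgroup.centralizer (P : Set G), unif H (x : G)
        * ((ξ : Subgroup.centralizer (P : Set G) → ℂ) x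
          / (ξ : Subgroup.centralizer (P : Set G) → ℂ) 1)
      = (Nat.card H : ℂ)⁻¹ / (ξ : Subgroup.centralizer (P : Set G) → ℂ) 1
        * ∑ u : H.subgroupOf (Subgroup.centralizer (P : Set G)),
          (ξ : Subgroup.centralizer (P : Set G) → ℂ)
            (1 * (u : Subgroup.centralizer (P : Set G))) := by
    rw [Finset.mul_sum]
    rw [← Finset.sum_subset (Finset.subset_univ (Finset.univ.filter
      (fun x : Subgroup.centralizer (P : Set G) =>
        x ∈ H.subgroupOf (Subgroup.centralizer (P : Set G)))))]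
    · rw [Finset.sum_subtype (p := fun x : Subgroup.centralizer (P : Set G) =>
        x ∈ H.subgroupOf (Subgroup.centralizer (P : Set G)))
        (Finset.univ.filter (fun x : Subgroup.centralizer (P : Set G) =>
          x ∈ H.subgroupOf (Subgroup.centralizer (P : Set G)))) (by intro x; simp)]
      apply Finset.sum_congr rfl
      intro u _
      have hu : ((u : Subgroup.centralizer (P : Set G)) : G) ∈ H := Subgroup.mem_subgroupOf.mp u.2
      rw [unif_of_mem H hu, one_mul]
      ring
    · intro x _ hx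
      rw [Finset.mem_filter] at hx
      have hx' : (x : G) ∉ H := fun h => hx ⟨Finset.mem_univ _, Subgroup.mem_subgroupOf.mpr h⟩
      rw [unif_of_notMem H hx', zero_mul]
  rw [h1, sum_apply_mul_normal ξ (H.subgroupOf (Subgroup.centralizer (P : Set G))) 1]
  have hiff : (∀ u ∈ H.subgroupOf (Subgroup.centralizer (P : Set G)),
        (ξ : Subgroup.centralizer (P : Set G) → ℂ) u
          = (ξ : Subgroup.centralizer (P : Set G) → ℂ) 1)
      ↔ (∀ c : Subgroup.centralizer (P : Set G), (c : G) ∈ H →
            (ξ : Subgroup.centralizer (P : Set G) → ℂ) c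
              = (ξ : Subgroup.centralizer (P : Set G) → ℂ) 1) := by
    constructor
    · intro h c hc
      exact h c (Subgroup.mem_subgroupOf.mpr hc)
    · intro h u hu
      exact h u (Subgroup.mem_subgroupOf.mp hu)
  by_cases hk : (∀ c : Subgroup.centralizer (P : Set G), (c : G) ∈ H →
            (ξ : Subgroup.centralizer (P : Set G) → ℂ) c
              = (ξ : Subgroup.centralizer (P : Set G) → ℂ) 1)
  · rw [if_pos hk, if_pos (hiff.mpr hk)]
    have hH0 : (Nat.card H : ℂ) ≠ 0 := by
      exact_mod_cast Nat.card_pos.ne'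
    field_simp
  · rw [if_neg hk, if_neg (fun h => hk (hiff.mp h)), mul_zero]

/-- A `p`-group normalizing `H`: the order of `H` is congruent to the number of its fixed
points. -/
theorem card_modEq_card_subgroupOf_centralizer {p : ℕ} [hp : Fact p.Prime] (P H : Subgroup G)
    (hP : IsPGroup p P) (hHP : ∀ u ∈ P, ∀ h ∈ H, u * h * u⁻¹ ∈ H) :
    Nat.card H ≡ Nat.card (H.subgroupOf (Subgroup.centralizer (P : Set G))) [MOD p] := by
  classical
  letI act : MulAction P H :=
    { smul := fun u h => ⟨(u : G) * (h : G) * (u : G)⁻¹, hHP u u.2 h h.2⟩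
      one_smul := fun h => by
        apply Subtype.ext
        show ((1 : P) : G) * (h : G) * ((1 : P) : G)⁻¹ = h
        simp
      mul_smul := fun u v h => by
        apply Subtype.ext
        show ((u * v : P) : G) * (h : G) * ((u * v : P) : G)⁻¹
          = (u : G) * ((v : G) * (h : G) * (v : G)⁻¹) * (u : G)⁻¹
        push_cast
        group }
  have hsmul : ∀ (u : P) (h : H), ((u • h : H) : G) = (u : G) * (h : G) * (u : G)⁻¹ :=
    fun _ _ => rfl
  have h1 := hP.card_modEq_card_fixedPoints (α := H)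
  have h2 : Nat.card (MulAction.fixedPoints P H)
      = Nat.card (H.subgroupOf (Subgroup.centralizer (P : Set G))) := by
    apply Nat.card_congr
    refine
      { toFun := fun x => ⟨⟨((x : H) : G), ?_⟩, ?_⟩
        invFun := fun y => ⟨⟨((y : Subgroup.centralizer (P : Set G)) : G), ?_⟩, ?_⟩
        left_inv := fun x => rfl
        right_inv := fun y => rfl }
    · rw [Subgroup.mem_centralizer_iff]
      intro u hu
      have := x.2 ⟨u, hu⟩
      have h3 := congrArg (fun h : H => (h : G)) this
      simp only [hsmul] at h3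
      have h4 : u * ((x : H) : G) * u⁻¹ = ((x : H) : G) := h3
      calc u * ((x : H) : G) = u * ((x : H) : G) * u⁻¹ * u := by group
        _ = ((x : H) : G) * u := by rw [h4]
    · rw [Subgroup.mem_subgroupOf]
      exact (x : H).2
    · exact Subgroup.mem_subgroupOf.mp y.2
    · intro u
      apply Subtype.ext
      rw [hsmul]
      have hc := (Subgroup.mem_centralizer_iff.mp (y : Subgroup.centralizer (P : Set G)).2)
        (u : G) u.2
      show (u : G) * ((y : Subgroup.centralizer (P : Set G)) : G) * (u : G)⁻¹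
        = ((y : Subgroup.centralizer (P : Set G)) : G)
      rw [hc]
      group
  rw [h2] at h1
  exact h1

/-- The ratio `|C_H(P)| / |H|` is a local unit. -/
theorem ratio_props {p : ℕ} [hp : Fact p.Prime] (hM : IsPModular p M) (P H : Subgroup G)
    (hP : IsPGroup p P) (hHP : ∀ u ∈ P, ∀ h ∈ H, u * h * u⁻¹ ∈ H) (hH : ¬ p ∣ Nat.card H) :
    MemLocalRing M ((Nat.card (H.subgroupOf (Subgroup.centralizer (P : Set G))) : ℂ)
        / (Nat.card H : ℂ))
      ∧ ¬ MemLocalIdeal M ((Nat.card (H.subgroupOf (Subgroup.centralizer (P : Set G))) : ℂ)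
        / (Nat.card H : ℂ)) := by
  haveI hMp := isPrime_of_isPModular hM
  have hmod := card_modEq_card_subgroupOf_centralizer P H hP hHP
  have hc : ¬ p ∣ Nat.card (H.subgroupOf (Subgroup.centralizer (P : Set G))) := by
    intro h
    apply hH
    exact (Nat.modEq_zero_iff_dvd.mp (hmod.trans (Nat.modEq_zero_iff_dvd.mpr h)))
  have hHM : ((Nat.card H : ℕ) : AlgInt) ∉ M := by
    rw [natCast_mem_iff hM]
    exact hH
  have hcM : ((Nat.card (H.subgroupOf (Subgroup.centralizer (P : Set G))) : ℕ) : AlgInt) ∉ M := by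
    rw [natCast_mem_iff hM]
    exact hc
  constructor
  · exact ⟨((Nat.card (H.subgroupOf (Subgroup.centralizer (P : Set G))) : ℕ) : AlgInt),
      ((Nat.card H : ℕ) : AlgInt), hHM, by push_cast; rfl⟩
  · rintro ⟨a, b, ha, hb, hab⟩
    have hb0 := coe_ne_zero_of_notMem hb
    have hH0 := coe_ne_zero_of_notMem hHM
    have h1 : ((a * (Nat.card H : AlgInt) : AlgInt) : ℂ)
        = ((b * (Nat.card (H.subgroupOf (Subgroup.centralizer (P : Set G))) : AlgInt) : AlgInt) : ℂ) := by
      push_cast at hH0 ⊢
      field_simp at hab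
      linear_combination hab
    have h2 : a * (Nat.card H : AlgInt)
        = b * (Nat.card (H.subgroupOf (Subgroup.centralizer (P : Set G))) : AlgInt) :=
      Subtype.ext h1
    have h3 : b * (Nat.card (H.subgroupOf (Subgroup.centralizer (P : Set G))) : AlgInt) ∈ M := by
      rw [← h2]
      exact M.mul_mem_right _ ha
    rcases hMp.mem_or_mem h3 with h4 | h4
    · exact hb h4
    · exact hcM h4

/-- **Transfer, first form.**  If `e_H` kills `a` while the Brauer functional of `a` at `ξ` is a
local unit, then `C_H(P)` is not in the kernel of `ξ`. -/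
theorem not_ker_of_conv_eq_zero {p : ℕ} [hp : Fact p.Prime] (hM : IsPModular p M)
    (P H : Subgroup G) (hP : IsPGroup p P) [Fintype (Subgroup.centralizer (P : Set G))]
    (hHP : ∀ u ∈ P, ∀ h ∈ H, u * h * u⁻¹ ∈ H)
    (hHC : ∀ c ∈ Subgroup.centralizer (P : Set G), ∀ h ∈ H, c * h * c⁻¹ ∈ H)
    (hH : ¬ p ∣ Nat.card H) (a : G → ℂ) (ha : ∀ g, MemLocalRing M (a g))
    (haP : ∀ u ∈ P, ∀ g, a (u * g * u⁻¹) = a g)
    (haC : ∀ c ∈ Subgroup.centralizer (P : Set G), ∀ g, a (c * g * c⁻¹) = a g)
    (hconv : conv a (unif H) = 0)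
    (ξ : IrrCharacter (Subgroup.centralizer (P : Set G)))
    (hξ : ¬ MemLocalIdeal M (brauerOmega P a (ξ : Subgroup.centralizer (P : Set G) → ℂ))) :
    ¬ (∀ c : Subgroup.centralizer (P : Set G), (c : G) ∈ H →
        (ξ : Subgroup.centralizer (P : Set G) → ℂ) c
          = (ξ : Subgroup.centralizer (P : Set G) → ℂ) 1) := by
  classical
  haveI hMp := isPrime_of_isPModular hM
  have hMtop : M ≠ ⊤ := hM.2.1.ne_top
  intro hk
  have h1 := memLocalIdeal_brauerOmega_conv hM P hP a (unif H) ha
    (fun g => memLocalRing_unif hM H hH g) haP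
    (fun u hu g => unif_conj H P hHP u hu g) haC
    (fun c hc g => unif_conj H _ hHC c hc g) ξ
  rw [hconv, brauerOmega_zero, brauerOmega_unif P H hHC ξ, if_pos hk, zero_sub] at h1
  have h2 := memLocalIdeal_neg h1
  rw [neg_neg] at h2
  obtain ⟨hr1, hr2⟩ := ratio_props hM P H hP hHP hH
  have hloc : MemLocalRing M (brauerOmega P a (ξ : Subgroup.centralizer (P : Set G) → ℂ)) :=
    memLocalRing_brauerOmega P a ha haC ξ
  rcases memLocalIdeal_or_of_mul_local hloc hr1 h2 with h3 | h3
  · exact hξ h3
  · exact hr2 h3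

/-- **Transfer, second form.**  If `e_H` fixes `a` and the Brauer functional of `a` at `ξ` is a
local unit, then `C_H(P)` is in the kernel of `ξ`. -/
theorem ker_of_conv_eq_self {p : ℕ} [hp : Fact p.Prime] (hM : IsPModular p M)
    (P H : Subgroup G) (hP : IsPGroup p P) [Fintype (Subgroup.centralizer (P : Set G))]
    (hHP : ∀ u ∈ P, ∀ h ∈ H, u * h * u⁻¹ ∈ H)
    (hHC : ∀ c ∈ Subgroup.centralizer (P : Set G), ∀ h ∈ H, c * h * c⁻¹ ∈ H)
    (hH : ¬ p ∣ Nat.card H) (a : G → ℂ) (ha : ∀ g, MemLocalRing M (a g))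
    (haP : ∀ u ∈ P, ∀ g, a (u * g * u⁻¹) = a g)
    (haC : ∀ c ∈ Subgroup.centralizer (P : Set G), ∀ g, a (c * g * c⁻¹) = a g)
    (hconv : conv a (unif H) = a)
    (ξ : IrrCharacter (Subgroup.centralizer (P : Set G)))
    (hξ : ¬ MemLocalIdeal M (brauerOmega P a (ξ : Subgroup.centralizer (P : Set G) → ℂ))) :
    ∀ c : Subgroup.centralizer (P : Set G), (c : G) ∈ H →
        (ξ : Subgroup.centralizer (P : Set G) → ℂ) c
          = (ξ : Subgroup.centralizer (P : Set G) → ℂ) 1 := by
  classical
  haveI hMp := isPrime_of_isPModular hM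
  have hMtop : M ≠ ⊤ := hM.2.1.ne_top
  by_contra hk
  have h1 := memLocalIdeal_brauerOmega_conv hM P hP a (unif H) ha
    (fun g => memLocalRing_unif hM H hH g) haP
    (fun u hu g => unif_conj H P hHP u hu g) haC
    (fun c hc g => unif_conj H _ hHC c hc g) ξ
  rw [hconv, brauerOmega_unif P H hHC ξ, if_neg hk, mul_zero, sub_zero] at h1
  exact hξ h1

end Cfsg.Agent.H2.BKer
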