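import Mathlib
import Cfsg.Agent.H2.BKer.A1
import Cfsg.Agent.Lib.helper3.AutBlock2
import Cfsg.Agent.Lib.helper3.RankOne2
import Cfsg.Agent.S0938

/-!
# `e_H` times a block idempotent

For a normal subgroup `H` and a set `S` of irreducible characters, `e_H e_S = e_S` if `H` is in
the kernel of every member of `S`, and `e_H e_S = 0` if `H` is in the kernel of no member of `S`.
For a block and a normal `p'`-subgroup exactly one of the two happens (S0938).
-/

set_option autoImplicit false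
set_option linter.style.haveILetI false
set_option linter.unusedSectionVars false

namespace Cfsg.Agent.H2.BKer

open Cfsg Cfsg.Agent.Lib.helper3.Block Cfsg.Agent.Lib.helper3.LocalM Cfsg.Agent.Lib.helper3.Irr
open Cfsg.Agent.Lib.helper3.CharBasic Cfsg.Agent.Lib.helper3.Central
open scoped ComplexConjugate

variable {G : Type*} [Group G] [Fintype G] {M : Ideal AlgInt}

theorem unif_inv (H : Subgroup G) (g : G) : unif H g⁻¹ = unif H g := by
  by_cases hg : g ∈ H
  · rw [unif_of_mem H hg, unif_of_mem H (H.inv_mem hg)]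
  · rw [unif_of_notMem H hg, unif_of_notMem H (fun h => hg (by simpa using H.inv_mem h))]

/-- Convolution with `e_H` averages over the coset `g H`. -/
theorem conv_unif_apply (H : Subgroup G) [Fintype H] (a : G → ℂ) (g : G) :
    conv a (unif H) g = (Nat.card H : ℂ)⁻¹ * ∑ u : H, a (g * (u : G)) := by
  classical
  unfold conv
  rw [← Equiv.sum_comp (Equiv.mulLeft g)]
  have h1 : ∀ y : G, a ((Equiv.mulLeft g) y) * unif H (((Equiv.mulLeft g) y)⁻¹ * g)
      = a (g * y) * unif H y := by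
    intro y
    rw [Equiv.coe_mulLeft, mul_inv_rev, inv_mul_cancel_right, unif_inv]
  rw [Finset.sum_congr rfl (fun y _ => h1 y)]
  rw [← Finset.sum_subset (Finset.subset_univ (Finset.univ.filter (fun x : G => x ∈ H)))]
  · rw [Finset.sum_subtype (p := fun x : G => x ∈ H)
      (Finset.univ.filter (fun x : G => x ∈ H)) (by intro x; simp), Finset.mul_sum]
    apply Finset.sum_congr rfl
    intro u _
    rw [unif_of_mem H u.2, mul_comm]
  · intro x _ hx
    rw [Finset.mem_filter] at hx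
    rw [unif_of_notMem H (fun h => hx ⟨Finset.mem_univ _, h⟩), mul_zero]

open Classical in
theorem conv_blockCoeff_unif_of_ker (S : Set (IrrCharacter G)) (H : Subgroup G) [hH : H.Normal]
    (hk : ∀ χ ∈ S, ∀ u ∈ H, (χ : G → ℂ) u = (χ : G → ℂ) 1) :
    conv (blockCoeff S) (unif H) = blockCoeff S := by
  haveI : Fintype H := Fintype.ofFinite _
  funext g
  rw [conv_unif_apply]
  simp_rw [blockCoeff_eq_sum_filter]
  rw [← Finset.mul_sum, Finset.sum_comm]
  have h1 : ∀ χ ∈ Finset.univ.filter (fun χ : IrrCharacter G => χ ∈ S),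
      ∑ u : H, (χ : G → ℂ) 1 * conj ((χ : G → ℂ) (g * (u : G)))
        = (Nat.card H : ℂ) * ((χ : G → ℂ) 1 * conj ((χ : G → ℂ) g)) := by
    intro χ hχ
    rw [Finset.mem_filter] at hχ
    rw [← Finset.mul_sum, ← map_sum, sum_apply_mul_normal χ H g, if_pos (hk χ hχ.2), map_mul,
      Complex.conj_natCast]
    ring
  rw [Finset.sum_congr rfl h1, ← Finset.mul_sum]
  have hH0 : (Nat.card H : ℂ) ≠ 0 := by
    exact_mod_cast Nat.card_pos.ne'
  field_simp

open Classical in
theorem conv_blockCoeff_unif_of_not_ker (S : Set (IrrCharacter G)) (H : Subgroup G)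
    [hH : H.Normal]
    (hk : ∀ χ ∈ S, ¬ ∀ u ∈ H, (χ : G → ℂ) u = (χ : G → ℂ) 1) :
    conv (blockCoeff S) (unif H) = 0 := by
  haveI : Fintype H := Fintype.ofFinite _
  funext g
  rw [conv_unif_apply]
  simp_rw [blockCoeff_eq_sum_filter]
  rw [← Finset.mul_sum, Finset.sum_comm]
  have h1 : ∀ χ ∈ Finset.univ.filter (fun χ : IrrCharacter G => χ ∈ S),
      ∑ u : H, (χ : G → ℂ) 1 * conj ((χ : G → ℂ) (g * (u : G))) = 0 := by
    intro χ hχ
    rw [Finset.mem_filter] at hχ
    rw [← Finset.mul_sum, ← map_sum, sum_apply_mul_normal χ H g, if_neg (hk χ hχ.2), map_zero,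
      mul_zero]
  rw [Finset.sum_congr rfl h1]
  simp

open Classical in
/-- The subgroup version: `Y ≤ G`, `H ≤ Y` normalized by `Y`. -/
theorem conv_subgroupBlockCoeff_unif (Y H : Subgroup G) [Fintype Y] (hHY : H ≤ Y)
    (f : Set (IrrCharacter Y)) (g : G) :
    conv (subgroupBlockCoeff Y f) (unif H) g
      = if hg : g ∈ Y then conv (blockCoeff f) (unif (H.subgroupOf Y)) ⟨g, hg⟩ else 0 := by
  haveI : Fintype H := Fintype.ofFinite _
  haveI : Fintype (H.subgroupOf Y) := Fintype.ofFinite _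
  rw [conv_unif_apply]
  by_cases hg : g ∈ Y
  · rw [dif_pos hg, conv_unif_apply]
    have hcard : Nat.card (H.subgroupOf Y) = Nat.card H :=
      Nat.card_congr (Subgroup.subgroupOfEquivOfLe hHY).toEquiv
    rw [hcard]
    congr 1
    rw [← Equiv.sum_comp (Subgroup.subgroupOfEquivOfLe hHY).toEquiv]
    apply Finset.sum_congr rfl
    intro u _
    have hu : (((Subgroup.subgroupOfEquivOfLe hHY).toEquiv u : H) : G)
        = ((u : Y) : G) := rfl
    rw [hu, subgroupBlockCoeff_of_mem Y f (Y.mul_mem hg (u : Y).2)]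
    rfl
  · rw [dif_neg hg]
    have h0 : ∀ u : H, subgroupBlockCoeff Y f (g * (u : G)) = 0 := by
      intro u
      apply subgroupBlockCoeff_of_notMem
      intro h
      apply hg
      have := Y.mul_mem h (Y.inv_mem (hHY u.2))
      rwa [mul_inv_cancel_right] at this
    rw [Finset.sum_congr rfl (fun u _ => h0 u)]
    simp

theorem conv_subgroupBlockCoeff_unif_of_ker (Y H : Subgroup G) [Fintype Y] (hHY : H ≤ Y)
    (hn : ∀ y ∈ Y, ∀ h ∈ H, y * h * y⁻¹ ∈ H) (f : Set (IrrCharacter Y))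
    (hk : ∀ χ ∈ f, ∀ u : Y, (u : G) ∈ H → (χ : Y → ℂ) u = (χ : Y → ℂ) 1) :
    conv (subgroupBlockCoeff Y f) (unif H) = subgroupBlockCoeff Y f := by
  haveI : (H.subgroupOf Y).Normal := by
    constructor
    intro n hn' g
    rw [Subgroup.mem_subgroupOf] at hn' ⊢
    have := hn (g : G) g.2 _ hn'
    simpa using this
  funext g
  rw [conv_subgroupBlockCoeff_unif Y H hHY f g]
  by_cases hg : g ∈ Y
  · rw [dif_pos hg, subgroupBlockCoeff_of_mem Y f hg,
      conv_blockCoeff_unif_of_ker f (H.subgroupOf Y)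
        (fun χ hχ u hu => hk χ hχ u (Subgroup.mem_subgroupOf.mp hu))]
  · rw [dif_neg hg, subgroupBlockCoeff_of_notMem Y f hg]

theorem conv_subgroupBlockCoeff_unif_of_not_ker (Y H : Subgroup G) [Fintype Y] (hHY : H ≤ Y)
    (hn : ∀ y ∈ Y, ∀ h ∈ H, y * h * y⁻¹ ∈ H) (f : Set (IrrCharacter Y))
    (hk : ∀ χ ∈ f, ¬ ∀ u : Y, (u : G) ∈ H → (χ : Y → ℂ) u = (χ : Y → ℂ) 1) :
    conv (subgroupBlockCoeff Y f) (unif H) = 0 := by
  haveI : (H.subgroupOf Y).Normal := by
    constructor
    intro n hn' g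
    rw [Subgroup.mem_subgroupOf] at hn' ⊢
    have := hn (g : G) g.2 _ hn'
    simpa using this
  funext g
  rw [conv_subgroupBlockCoeff_unif Y H hHY f g]
  by_cases hg : g ∈ Y
  · rw [dif_pos hg,
      conv_blockCoeff_unif_of_not_ker f (H.subgroupOf Y)
        (fun χ hχ h => hk χ hχ (fun u hu => h u (Subgroup.mem_subgroupOf.mpr hu)))]
    rfl
  · rw [dif_neg hg]
    rfl

/-- For a block and a normal `p'`-subgroup: if one member has the subgroup in its kernel, all
members do. -/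
theorem ker_of_one_mem {p : ℕ} [hp : Fact p.Prime] (hM : IsPModular p M)
    (B : Set (IrrCharacter G)) (hB : IsPBlock M B) (H : Subgroup G) [hH : H.Normal]
    (hHp : ¬ p ∣ Nat.card H) (χ : IrrCharacter G) (hχ : χ ∈ B)
    (hk : ∀ u ∈ H, (χ : G → ℂ) u = (χ : G → ℂ) 1) :
    ∀ ψ ∈ B, ∀ u ∈ H, (ψ : G → ℂ) u = (ψ : G → ℂ) 1 := by
  obtain ⟨K, -, hK, -, -, hmax⟩ := Cfsg.Agent.S0938.result p M hM B hB χ hχ
  have h1 : H ≤ K := hmax H hH hHp hk
  intro ψ hψ u hu
  have h2 : u ∈ (K : Set G) := h1 hu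
  rw [hK] at h2
  exact h2 ψ hψ

end Cfsg.Agent.H2.BKer
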