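import Mathlib
import Cfsg.Agent.H2.BKer.A2
import Cfsg.Agent.Lib.Lead.PiCore

/-!
# The image in `G` of the `π'`-core of a centralizer
-/

set_option autoImplicit false
set_option linter.style.haveILetI false
set_option linter.unusedSectionVars false

namespace Cfsg.Agent.H2.BKer

open Cfsg Cfsg.Agent.Lib.Lead.PiCore

universe u

variable {G : Type u} [Group G]

/-- The image in `G` of `O_{π'}(Y)` for a subgroup `Y`. -/
def coreIm (π : Set ℕ) (Y : Subgroup G) : Subgroup G :=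
  (piCore {q | q ∉ π} ↥Y).map Y.subtype

theorem coreIm_le (π : Set ℕ) (Y : Subgroup G) : coreIm π Y ≤ Y := by
  rintro x ⟨w, -, rfl⟩
  exact w.2

theorem mem_coreIm_iff (π : Set ℕ) (Y : Subgroup G) (u : Y) :
    (u : G) ∈ coreIm π Y ↔ u ∈ piCore {q | q ∉ π} ↥Y := by
  constructor
  · rintro ⟨w, hw, hwu⟩
    have : w = u := Subtype.ext hwu
    rwa [← this]
  · intro h
    exact ⟨u, h, rfl⟩

theorem coreIm_conj_of_mem (π : Set ℕ) (Y : Subgroup G) (y : G) (hy : y ∈ Y) (h : G)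
    (hh : h ∈ coreIm π Y) : y * h * y⁻¹ ∈ coreIm π Y := by
  obtain ⟨w, hw, rfl⟩ := hh
  have := (piCore_normal {q | q ∉ π} ↥Y).conj_mem w hw ⟨y, hy⟩
  exact ⟨_, this, rfl⟩

theorem coreIm_conj_of_mem_normalizer [Finite G] (π : Set ℕ) (Y : Subgroup G) (n : G)
    (hn : n ∈ Subgroup.normalizer (Y : Set G)) (h : G) (hh : h ∈ coreIm π Y) :
    n * h * n⁻¹ ∈ coreIm π Y := by
  obtain ⟨w, hw, rfl⟩ := hh
  have hchar := piCore_characteristic (G := ↥Y) {q | q ∉ π}
  have h1 := (Subgroup.characteristic_iff_map_eq.mp hchar) (Y.normalizerMonoidHom ⟨n, hn⟩)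
  have h2 : (Y.normalizerMonoidHom ⟨n, hn⟩) w ∈ piCore {q | q ∉ π} ↥Y := by
    rw [← h1]
    exact ⟨w, hw, rfl⟩
  exact ⟨_, h2, rfl⟩

theorem card_coreIm (π : Set ℕ) (Y : Subgroup G) :
    Nat.card (coreIm π Y) = Nat.card (piCore {q | q ∉ π} ↥Y) :=
  (Nat.card_congr ((piCore {q | q ∉ π} ↥Y).equivMapOfInjective _
    Y.subtype_injective).toEquiv).symm

theorem isPiNat_card_coreIm [Finite G] (π : Set ℕ) (Y : Subgroup G) :
    IsPiNat {q | q ∉ π} (Nat.card (coreIm π Y)) := by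
  rw [card_coreIm]
  exact piCore_isPiNat _

theorem not_dvd_card_coreIm [Finite G] (π : Set ℕ) (Y : Subgroup G) {p : ℕ} (hp : p.Prime)
    (hpπ : p ∈ π) : ¬ p ∣ Nat.card (coreIm π Y) :=
  fun h => isPiNat_card_coreIm π Y p hp h hpπ

/-- A normal `π'`-subgroup of `Z ≤ Y` cut out by the core image of `Y` lies in the core of `Z`. -/
theorem subgroupOf_coreIm_le [Finite G] (π : Set ℕ) (Y Z : Subgroup G) (hZY : Z ≤ Y) :
    (coreIm π Y).subgroupOf Z ≤ piCore {q | q ∉ π} ↥Z := by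
  apply le_piCore
  · constructor
    intro n hn g
    rw [Subgroup.mem_subgroupOf] at hn ⊢
    have := coreIm_conj_of_mem π Y (g : G) (hZY g.2) _ hn
    simpa using this
  · have h1 : Nat.card ((coreIm π Y).subgroupOf Z) ∣ Nat.card (coreIm π Y) := by
      have h2 : Nat.card ((coreIm π Y).subgroupOf Z) = Nat.card ((coreIm π Y ⊓ Z : Subgroup G)) := by
        rw [← Subgroup.inf_subgroupOf_right]
        exact Nat.card_congr (Subgroup.subgroupOfEquivOfLe inf_le_right).toEquiv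
      rw [h2]
      exact Subgroup.card_dvd_of_le inf_le_left
    exact (isPiNat_card_coreIm π Y).of_dvd h1

end Cfsg.Agent.H2.BKer
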