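import Mathlib
import Cfsg.Agent.H2.BKer.A3
import Cfsg.Agent.Lib.helper3.SubpairBlock

/-!
# The kernel property along a normal inclusion of Brauer pairs
-/

set_option autoImplicit false
set_option linter.style.haveILetI false
set_option linter.unusedSectionVars false

namespace Cfsg.Agent.H2.BKer

open Cfsg Cfsg.Agent.Lib.helper3.Block Cfsg.Agent.Lib.helper3.LocalM Cfsg.Agent.Lib.helper3.Irr
open Cfsg.Agent.Lib.helper3.CharBasic Cfsg.Agent.Lib.helper3.Central
open Cfsg.Agent.Lib.Lead.PiCore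
open scoped ComplexConjugate

universe u

variable {G : Type u} [Group G]

/-- `O_{π'}(Y)` lies in the kernel of the set `f` of characters of `Y`. -/
def KerProp (π : Set ℕ) (Y : Subgroup G) (f : Set (IrrCharacter Y)) : Prop :=
  ∀ x : Y, x ∈ piCore {q | q ∉ π} ↥Y → x ∈ blockKer f

/-- Every `π'`-element of `Y` lies in `O_{π'}(Y)`. -/
def HallProp (π : Set ℕ) (Y : Subgroup G) : Prop :=
  ∀ x : Y, (∀ q : ℕ, q.Prime → q ∣ orderOf x → q ∉ π) → x ∈ piCore {q | q ∉ π} ↥Y

variable [Fintype G] {M : Ideal AlgInt}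

theorem exists_mem_of_isPBlock [hMp : M.IsPrime] {Y : Type*} [Group Y] (f : Set (IrrCharacter Y))
    (hf : IsPBlock M f) : ∃ ξ, ξ ∈ f := by
  obtain ⟨χ, rfl⟩ := hf
  exact ⟨χ, sameBlock_refl hMp.ne_top _⟩

theorem not_memLocalIdeal_of_sub_one [hMp : M.IsPrime] {z : ℂ} (h : MemLocalIdeal M (z - 1)) :
    ¬ MemLocalIdeal M z := by
  intro hz
  have := memLocalIdeal_sub hz h
  rw [sub_sub_cancel] at this
  exact not_memLocalIdeal_one this

/-- Going down a normal inclusion. -/
theorem kerProp_down {p : ℕ} [hp : Fact p.Prime] (hM : IsPModular p M) (π : Set ℕ) (hpπ : p ∈ π)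
    (Q P : Subgroup G) (f : Set (IrrCharacter (Subgroup.centralizer (Q : Set G))))
    (e : Set (IrrCharacter (Subgroup.centralizer (P : Set G))))
    (h : IsNormalSubpair p M Q f P e) (hk : KerProp π (Subgroup.centralizer (P : Set G)) e) :
    KerProp π (Subgroup.centralizer (Q : Set G)) f := by
  classical
  haveI hMp := isPrime_of_isPModular hM
  haveI : Fintype (Subgroup.centralizer (P : Set G)) := Fintype.ofFinite _
  haveI : Fintype (Subgroup.centralizer (Q : Set G)) := Fintype.ofFinite _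
  obtain ⟨⟨hQp, hf⟩, ⟨hPp, he⟩, hQP, hPN, hst, hΛ⟩ := h
  have hCPQ : Subgroup.centralizer (P : Set G) ≤ Subgroup.centralizer (Q : Set G) :=
    Subgroup.centralizer_le hQP
  by_contra hcon
  unfold KerProp at hcon
  push Not at hcon
  obtain ⟨x₀, hx₀, hx₀k⟩ := hcon
  obtain ⟨H, hHdef⟩ : ∃ H : Subgroup G, H = coreIm π (Subgroup.centralizer (Q : Set G)) :=
    ⟨_, rfl⟩
  have hHle : H ≤ Subgroup.centralizer (Q : Set G) := hHdef ▸ coreIm_le π _
  have hHQ : ∀ y ∈ Subgroup.centralizer (Q : Set G), ∀ h ∈ H, y * h * y⁻¹ ∈ H := by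
    intro y hy h hh
    rw [hHdef] at hh ⊢
    exact coreIm_conj_of_mem π _ y hy h hh
  have hHP : ∀ u ∈ P, ∀ h ∈ H, u * h * u⁻¹ ∈ H := by
    intro u hu h hh
    rw [hHdef] at hh ⊢
    exact coreIm_conj_of_mem_normalizer π _ u (hst u hu).1 h hh
  have hHp : ¬ p ∣ Nat.card H := hHdef ▸ not_dvd_card_coreIm π _ hp.out hpπ
  -- no member of `f` has `H` in its kernel
  have hnk : ∀ χ ∈ f, ¬ ∀ u : Subgroup.centralizer (Q : Set G), (u : G) ∈ H →
      (χ : Subgroup.centralizer (Q : Set G) → ℂ) u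
        = (χ : Subgroup.centralizer (Q : Set G) → ℂ) 1 := by
    intro χ hχ hker
    apply hx₀k
    intro ψ hψ
    have hWp : ¬ p ∣ Nat.card (piCore {q | q ∉ π} ↥(Subgroup.centralizer (Q : Set G))) := by
      rw [← card_coreIm, ← hHdef]
      exact hHp
    exact ker_of_one_mem hM f hf (piCore {q | q ∉ π} ↥(Subgroup.centralizer (Q : Set G))) hWp
      χ hχ (fun u hu => hker u (by rw [hHdef]; exact (mem_coreIm_iff π _ u).mpr hu)) ψ hψ x₀ hx₀
  have hconv := conv_subgroupBlockCoeff_unif_of_not_ker (Subgroup.centralizer (Q : Set G)) H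
    hHle hHQ f hnk
  obtain ⟨ξ, hξ⟩ := exists_mem_of_isPBlock e he
  have hξ' := not_memLocalIdeal_of_sub_one (hΛ ξ hξ)
  have hfin := not_ker_of_conv_eq_zero hM P H hPp hHP
    (fun c hc h hh => hHQ c (hCPQ hc) h hh) hHp
    (subgroupBlockCoeff (Subgroup.centralizer (Q : Set G)) f)
    (fun g => memLocalRing_subgroupBlockCoeff hM _ f hf g)
    (fun u hu g => subgroupBlockCoeff_conj_of_stabilizes _ f hf u (hst u hu) g)
    (fun c hc g => subgroupBlockCoeff_conj_of_mem _ f c (hCPQ hc) g)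
    hconv ξ hξ'
  apply hfin
  intro c hc
  have h1 : c ∈ (coreIm π (Subgroup.centralizer (Q : Set G))).subgroupOf
      (Subgroup.centralizer (P : Set G)) := by
    rw [Subgroup.mem_subgroupOf, ← hHdef]
    exact hc
  exact hk c (subgroupOf_coreIm_le π _ _ hCPQ h1) ξ hξ

/-- Going up a normal inclusion, under the Hall hypothesis. -/
theorem kerProp_up {p : ℕ} [hp : Fact p.Prime] (hM : IsPModular p M) (π : Set ℕ) (hpπ : p ∈ π)
    (Q P : Subgroup G) (f : Set (IrrCharacter (Subgroup.centralizer (Q : Set G))))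
    (e : Set (IrrCharacter (Subgroup.centralizer (P : Set G))))
    (h : IsNormalSubpair p M Q f P e) (hH : HallProp π (Subgroup.centralizer (Q : Set G)))
    (hk : KerProp π (Subgroup.centralizer (Q : Set G)) f) :
    HallProp π (Subgroup.centralizer (P : Set G))
      ∧ KerProp π (Subgroup.centralizer (P : Set G)) e := by
  classical
  haveI hMp := isPrime_of_isPModular hM
  haveI : Fintype (Subgroup.centralizer (P : Set G)) := Fintype.ofFinite _
  haveI : Fintype (Subgroup.centralizer (Q : Set G)) := Fintype.ofFinite _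
  obtain ⟨⟨hQp, hf⟩, ⟨hPp, he⟩, hQP, hPN, hst, hΛ⟩ := h
  have hCPQ : Subgroup.centralizer (P : Set G) ≤ Subgroup.centralizer (Q : Set G) :=
    Subgroup.centralizer_le hQP
  obtain ⟨H, hHdef⟩ : ∃ H : Subgroup G, H = coreIm π (Subgroup.centralizer (Q : Set G)) :=
    ⟨_, rfl⟩
  have hHle : H ≤ Subgroup.centralizer (Q : Set G) := hHdef ▸ coreIm_le π _
  have hHQ : ∀ y ∈ Subgroup.centralizer (Q : Set G), ∀ h ∈ H, y * h * y⁻¹ ∈ H := by
    intro y hy h hh
    rw [hHdef] at hh ⊢
    exact coreIm_conj_of_mem π _ y hy h hh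
  have hHP : ∀ u ∈ P, ∀ h ∈ H, u * h * u⁻¹ ∈ H := by
    intro u hu h hh
    rw [hHdef] at hh ⊢
    exact coreIm_conj_of_mem_normalizer π _ u (hst u hu).1 h hh
  have hHp : ¬ p ∣ Nat.card H := hHdef ▸ not_dvd_card_coreIm π _ hp.out hpπ
  -- a `π'`-element of `C_G(P)` lies in `H`
  have hmemH : ∀ x : Subgroup.centralizer (P : Set G),
      (∀ q : ℕ, q.Prime → q ∣ orderOf x → q ∉ π) → (x : G) ∈ H := by
    intro x hx
    have h1 : (⟨(x : G), hCPQ x.2⟩ : Subgroup.centralizer (Q : Set G))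
        ∈ piCore {q | q ∉ π} ↥(Subgroup.centralizer (Q : Set G)) := by
      apply hH
      intro q hq hdvd
      apply hx q hq
      rw [← Subgroup.orderOf_coe] at hdvd ⊢
      exact hdvd
    rw [hHdef]
    exact (mem_coreIm_iff π _ _).mpr h1
  have hcoreP : ∀ x : Subgroup.centralizer (P : Set G), (x : G) ∈ H →
      x ∈ piCore {q | q ∉ π} ↥(Subgroup.centralizer (P : Set G)) := by
    intro x hx
    have h1 : x ∈ (coreIm π (Subgroup.centralizer (Q : Set G))).subgroupOf
        (Subgroup.centralizer (P : Set G)) := by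
      rw [Subgroup.mem_subgroupOf, ← hHdef]
      exact hx
    exact subgroupOf_coreIm_le π _ _ hCPQ h1
  refine ⟨fun x hx => hcoreP x (hmemH x hx), ?_⟩
  -- the kernel property
  have hker : ∀ χ ∈ f, ∀ u : Subgroup.centralizer (Q : Set G), (u : G) ∈ H →
      (χ : Subgroup.centralizer (Q : Set G) → ℂ) u
        = (χ : Subgroup.centralizer (Q : Set G) → ℂ) 1 := by
    intro χ hχ u hu
    rw [hHdef] at hu
    exact hk u ((mem_coreIm_iff π _ u).mp hu) χ hχ
  have hconv := conv_subgroupBlockCoeff_unif_of_ker (Subgroup.centralizer (Q : Set G)) H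
    hHle hHQ f hker
  intro x hx ξ hξ
  have hξ' := not_memLocalIdeal_of_sub_one (hΛ ξ hξ)
  have hfin := ker_of_conv_eq_self hM P H hPp hHP
    (fun c hc h hh => hHQ c (hCPQ hc) h hh) hHp
    (subgroupBlockCoeff (Subgroup.centralizer (Q : Set G)) f)
    (fun g => memLocalRing_subgroupBlockCoeff hM _ f hf g)
    (fun u hu g => subgroupBlockCoeff_conj_of_stabilizes _ f hf u (hst u hu) g)
    (fun c hc g => subgroupBlockCoeff_conj_of_mem _ f c (hCPQ hc) g)
    hconv ξ hξ'
  apply hfin x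
  apply hmemH x
  -- an element of the core is a `π'`-element
  intro q hq hdvd
  have h1 : orderOf x ∣ Nat.card (piCore {q | q ∉ π} ↥(Subgroup.centralizer (P : Set G))) := by
    have h2 := orderOf_dvd_natCard (⟨x, hx⟩ : piCore {q | q ∉ π} ↥(Subgroup.centralizer (P : Set G)))
    rwa [Subgroup.orderOf_mk] at h2
  exact piCore_isPiNat {q | q ∉ π} q hq (dvd_trans hdvd h1)

end Cfsg.Agent.H2.BKer
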