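import Mathlib
import Cfsg.Agent.H2.BKer.A4
import Cfsg.Agent.Lib.helper3.ProjVanish6
import Cfsg.Agent.Lib.helper3.SP3
import Cfsg.Agent.Lib.helper3.IrrCongr

/-!
# The kernel property: between a block and its Brauer pairs, along chains, under transport
-/

set_option autoImplicit false
set_option linter.style.haveILetI false
set_option linter.unusedSectionVars false

namespace Cfsg.Agent.H2.BKer

open Cfsg Cfsg.Agent.Lib.helper3.Block Cfsg.Agent.Lib.helper3.LocalM Cfsg.Agent.Lib.helper3.Irr
open Cfsg.Agent.Lib.helper3.CharBasic Cfsg.Agent.Lib.helper3.Central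
open Cfsg.Agent.Lib.Lead.PiCore
open scoped ComplexConjugate

universe u

variable {G : Type u} [Group G] [Fintype G] {M : Ideal AlgInt}

/-- From a Brauer pair to the block: if `O_{π'}(C_G(P))` is in the kernel of `e`, then
`O_{π'}(G)` is in the kernel of `B`. -/
theorem ker_block_of_kerProp {p : ℕ} [hp : Fact p.Prime] (hM : IsPModular p M) (π : Set ℕ)
    (hpπ : p ∈ π) (B : Set (IrrCharacter G)) (P : Subgroup G)
    (e : Set (IrrCharacter (Subgroup.centralizer (P : Set G))))
    (hBe : IsBrauerPairOf p M B P e) (hk : KerProp π (Subgroup.centralizer (P : Set G)) e) :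
    ∀ x : G, x ∈ piCore {q | q ∉ π} G → x ∈ blockKer B := by
  classical
  haveI hMp := isPrime_of_isPModular hM
  haveI : Fintype (Subgroup.centralizer (P : Set G)) := Fintype.ofFinite _
  obtain ⟨⟨hPp, he⟩, hB, hΛ⟩ := hBe
  by_contra hcon
  push Not at hcon
  obtain ⟨x₀, hx₀, hx₀k⟩ := hcon
  obtain ⟨H, hHdef⟩ : ∃ H : Subgroup G, H = piCore {q | q ∉ π} G := ⟨_, rfl⟩
  haveI hHn : H.Normal := hHdef ▸ piCore_normal _ G
  have hHp : ¬ p ∣ Nat.card H := by
    intro h
    rw [hHdef] at h
    exact piCore_isPiNat {q | q ∉ π} p hp.out h hpπ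
  have hnk : ∀ χ ∈ B, ¬ ∀ u ∈ H, (χ : G → ℂ) u = (χ : G → ℂ) 1 := by
    intro χ hχ hker
    apply hx₀k
    intro ψ hψ
    exact ker_of_one_mem hM B hB H hHp χ hχ hker ψ hψ x₀ (hHdef ▸ hx₀)
  have hconv := conv_blockCoeff_unif_of_not_ker B H hnk
  obtain ⟨ξ, hξ⟩ := exists_mem_of_isPBlock e he
  have hξ' := not_memLocalIdeal_of_sub_one (hΛ ξ hξ)
  have hfin := not_ker_of_conv_eq_zero hM P H hPp
    (fun u _ h hh => hHn.conj_mem h hh u) (fun c _ h hh => hHn.conj_mem h hh c) hHp
    (blockCoeff B) (fun g => osima hM B hB g) (fun u _ g => blockCoeff_conj' B g u)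
    (fun c _ g => blockCoeff_conj' B g c) hconv ξ hξ'
  apply hfin
  intro c hc
  have h1 : c ∈ H.subgroupOf (Subgroup.centralizer (P : Set G)) := Subgroup.mem_subgroupOf.mpr hc
  have h2 : H.subgroupOf (Subgroup.centralizer (P : Set G))
      ≤ piCore {q | q ∉ π} ↥(Subgroup.centralizer (P : Set G)) := by
    apply le_piCore
    · infer_instance
    · have h3 : Nat.card (H.subgroupOf (Subgroup.centralizer (P : Set G))) ∣ Nat.card H := by
        have h4 : Nat.card (H.subgroupOf (Subgroup.centralizer (P : Set G)))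
            = Nat.card ((H ⊓ Subgroup.centralizer (P : Set G) : Subgroup G)) := by
          rw [← Subgroup.inf_subgroupOf_right]
          exact Nat.card_congr (Subgroup.subgroupOfEquivOfLe inf_le_right).toEquiv
        rw [h4]
        exact Subgroup.card_dvd_of_le inf_le_left
      have h5 : IsPiNat {q | q ∉ π} (Nat.card H) := hHdef ▸ piCore_isPiNat _
      exact h5.of_dvd h3
  exact hk c (h2 h1) ξ hξ

/-- From the block to a Brauer pair on a normal `p`-subgroup. -/
theorem kerProp_of_ker_block {p : ℕ} [hp : Fact p.Prime] (hM : IsPModular p M) (π : Set ℕ)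
    (hpπ : p ∈ π) (B : Set (IrrCharacter G)) (P : Subgroup G) [hPn : P.Normal]
    (e : Set (IrrCharacter (Subgroup.centralizer (P : Set G))))
    (hBe : IsBrauerPairOf p M B P e)
    (hk : ∀ x : G, x ∈ piCore {q | q ∉ π} G → x ∈ blockKer B) :
    KerProp π (Subgroup.centralizer (P : Set G)) e := by
  classical
  haveI hMp := isPrime_of_isPModular hM
  haveI : Fintype (Subgroup.centralizer (P : Set G)) := Fintype.ofFinite _
  obtain ⟨⟨hPp, he⟩, hB, hΛ⟩ := hBe
  obtain ⟨H, hHdef⟩ : ∃ H : Subgroup G, H = piCore {q | q ∉ π} G := ⟨_, rfl⟩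
  haveI hHn : H.Normal := hHdef ▸ piCore_normal _ G
  have hHp : ¬ p ∣ Nat.card H := by
    intro h
    rw [hHdef] at h
    exact piCore_isPiNat {q | q ∉ π} p hp.out h hpπ
  have hker : ∀ χ ∈ B, ∀ u ∈ H, (χ : G → ℂ) u = (χ : G → ℂ) 1 := by
    intro χ hχ u hu
    exact hk u (hHdef ▸ hu) χ hχ
  have hconv := conv_blockCoeff_unif_of_ker B H hker
  intro x hx ξ hξ
  have hξ' := not_memLocalIdeal_of_sub_one (hΛ ξ hξ)
  have hfin := ker_of_conv_eq_self hM P H hPp
    (fun u _ h hh => hHn.conj_mem h hh u) (fun c _ h hh => hHn.conj_mem h hh c) hHp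
    (blockCoeff B) (fun g => osima hM B hB g) (fun u _ g => blockCoeff_conj' B g u)
    (fun c _ g => blockCoeff_conj' B g c) hconv ξ hξ'
  apply hfin x
  haveI : (Subgroup.centralizer (P : Set G)).Normal := Subgroup.normal_centralizer
  have h1 := map_subtype_piCore_le_of_normal {q | q ∉ π} (Subgroup.centralizer (P : Set G))
  rw [hHdef]
  exact h1 ⟨x, hx, rfl⟩

/-- Going down a chain of normal inclusions. -/
theorem kerProp_of_subpairLE {p : ℕ} [hp : Fact p.Prime] (hM : IsPModular p M) (π : Set ℕ)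
    (hpπ : p ∈ π) (Q P : Subgroup G) (f : Set (IrrCharacter (Subgroup.centralizer (Q : Set G))))
    (e : Set (IrrCharacter (Subgroup.centralizer (P : Set G))))
    (h : SubpairLE p M Q f P e) (hk : KerProp π (Subgroup.centralizer (P : Set G)) e) :
    KerProp π (Subgroup.centralizer (Q : Set G)) f := by
  have h' : Relation.ReflTransGen (NormalSubpairRel p M) (⟨Q, f⟩ : BrauerPairIdx G) ⟨P, e⟩ := h
  have key : ∀ a : BrauerPairIdx G,
      Relation.ReflTransGen (NormalSubpairRel p M) a (⟨P, e⟩ : BrauerPairIdx G) →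
      KerProp π (Subgroup.centralizer (a.1 : Set G)) a.2 := by
    intro a ha
    induction ha using Relation.ReflTransGen.head_induction_on with
    | refl => exact hk
    | head hab _ ih => exact kerProp_down hM π hpπ _ _ _ _ hab ih
  exact key ⟨Q, f⟩ h'

/-- Going up a chain of normal inclusions. -/
theorem kerProp_up_of_subpairLE {p : ℕ} [hp : Fact p.Prime] (hM : IsPModular p M) (π : Set ℕ)
    (hpπ : p ∈ π) (Q P : Subgroup G) (f : Set (IrrCharacter (Subgroup.centralizer (Q : Set G))))
    (e : Set (IrrCharacter (Subgroup.centralizer (P : Set G))))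
    (h : SubpairLE p M Q f P e) (hH : HallProp π (Subgroup.centralizer (Q : Set G)))
    (hk : KerProp π (Subgroup.centralizer (Q : Set G)) f) :
    HallProp π (Subgroup.centralizer (P : Set G))
      ∧ KerProp π (Subgroup.centralizer (P : Set G)) e := by
  have h' : Relation.ReflTransGen (NormalSubpairRel p M) (⟨Q, f⟩ : BrauerPairIdx G) ⟨P, e⟩ := h
  have key : ∀ b : BrauerPairIdx G,
      Relation.ReflTransGen (NormalSubpairRel p M) (⟨Q, f⟩ : BrauerPairIdx G) b →
      HallProp π (Subgroup.centralizer (b.1 : Set G))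
        ∧ KerProp π (Subgroup.centralizer (b.1 : Set G)) b.2 := by
    intro b hb
    induction hb with
    | refl => exact ⟨hH, hk⟩
    | tail _ hbc ih => exact kerProp_up hM π hpπ _ _ _ _ hbc ih.1 ih.2
  exact key ⟨P, e⟩ h'

/-! ### Transport along an isomorphism -/

section transport

variable {Y Y' : Type u} [Group Y] [Group Y'] [Fintype Y] [Fintype Y']

theorem mem_piCore_equiv_iff (π : Set ℕ) (ι : Y' ≃* Y) (x' : Y') :
    ι x' ∈ piCore π Y ↔ x' ∈ piCore π Y' := by
  rw [← piCore_map_equiv π ι]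
  constructor
  · rintro ⟨w, hw, hwx⟩
    have : w = x' := ι.injective hwx
    rwa [← this]
  · intro h
    exact ⟨x', h, rfl⟩

theorem mem_blockKer_image_irrCongr_iff (ι : Y' ≃* Y) (f : Set (IrrCharacter Y)) (x' : Y') :
    x' ∈ blockKer (irrCongr ι '' f) ↔ ι x' ∈ blockKer f := by
  constructor
  · intro h ξ hξ
    have := h (irrCongr ι ξ) ⟨ξ, hξ, rfl⟩
    rwa [irrCongr_apply, irrCongr_apply, map_one] at this
  · rintro h _ ⟨ξ, hξ, rfl⟩
    rw [irrCongr_apply, irrCongr_apply, map_one]
    exact h ξ hξ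

/-- The kernel property is invariant under transport. -/
theorem kerT_iff (π : Set ℕ) (ι : Y' ≃* Y) (f : Set (IrrCharacter Y)) :
    (∀ x' : Y', x' ∈ piCore {q | q ∉ π} Y' → x' ∈ blockKer (irrCongr ι '' f))
      ↔ (∀ x : Y, x ∈ piCore {q | q ∉ π} Y → x ∈ blockKer f) := by
  constructor
  · intro h x hx
    have h1 := h (ι.symm x) ((mem_piCore_equiv_iff _ ι _).mp (by rwa [ι.apply_symm_apply]))
    rw [mem_blockKer_image_irrCongr_iff, ι.apply_symm_apply] at h1
    exact h1
  · intro h x' hx'
    rw [mem_blockKer_image_irrCongr_iff]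
    exact h _ ((mem_piCore_equiv_iff _ ι _).mpr hx')

/-- The Hall property is invariant under transport. -/
theorem hallT_iff (π : Set ℕ) (ι : Y' ≃* Y) :
    (∀ x' : Y', (∀ q : ℕ, q.Prime → q ∣ orderOf x' → q ∉ π) → x' ∈ piCore {q | q ∉ π} Y')
      ↔ (∀ x : Y, (∀ q : ℕ, q.Prime → q ∣ orderOf x → q ∉ π) → x ∈ piCore {q | q ∉ π} Y) := by
  constructor
  · intro h x hx
    have h1 := h (ι.symm x) (by
      intro q hq hdvd
      apply hx q hq
      rwa [MulEquiv.orderOf_eq] at hdvd)
    have h2 := (mem_piCore_equiv_iff _ ι _).mpr h1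
    rwa [ι.apply_symm_apply] at h2
  · intro h x' hx'
    apply (mem_piCore_equiv_iff _ ι _).mp
    apply h
    intro q hq hdvd
    apply hx' q hq
    rwa [MulEquiv.orderOf_eq] at hdvd

end transport

/-- The kernel property for a conjugate pair. -/
theorem kerProp_conjBlock_iff (π : Set ℕ) (Q : Subgroup G) (x : G)
    (f : Set (IrrCharacter (Subgroup.centralizer (Q : Set G)))) :
    KerProp π (Subgroup.centralizer ((Q.map (MulAut.conj x).toMonoidHom : Subgroup G) : Set G))
        (conjBlock Q x f)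
      ↔ KerProp π (Subgroup.centralizer (Q : Set G)) f := by
  classical
  haveI : Fintype (Subgroup.centralizer (Q : Set G)) := Fintype.ofFinite _
  haveI : Fintype (Subgroup.centralizer
    ((Q.map (MulAut.conj x).toMonoidHom : Subgroup G) : Set G)) := Fintype.ofFinite _
  rw [conjBlock_eq_image]
  exact kerT_iff π (centConj Q x) f

theorem hallProp_conj_iff (π : Set ℕ) (Q : Subgroup G) (x : G) :
    HallProp π (Subgroup.centralizer ((Q.map (MulAut.conj x).toMonoidHom : Subgroup G) : Set G))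
      ↔ HallProp π (Subgroup.centralizer (Q : Set G)) := by
  classical
  haveI : Fintype (Subgroup.centralizer (Q : Set G)) := Fintype.ofFinite _
  haveI : Fintype (Subgroup.centralizer
    ((Q.map (MulAut.conj x).toMonoidHom : Subgroup G) : Set G)) := Fintype.ofFinite _
  exact hallT_iff π (centConj Q x)

end Cfsg.Agent.H2.BKer
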