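import Mathlib
import Cfsg.Agent.H2.BKer.A5
import Cfsg.Agent.Lib.helper3.BrauerPairInd
import Cfsg.Agent.Lib.helper3.ExtFirstMain1
import Cfsg.Agent.S4657

/-!
# Brauer pairs of a block of a subgroup, read in the whole group
-/

set_option autoImplicit false
set_option linter.style.haveILetI false
set_option linter.unusedSectionVars false

namespace Cfsg.Agent.H2.BKer

open Cfsg Cfsg.Agent.Lib.helper3.Block Cfsg.Agent.Lib.helper3.LocalM Cfsg.Agent.Lib.helper3.Irr
open Cfsg.Agent.Lib.helper3.CharBasic Cfsg.Agent.Lib.helper3.Central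
open Cfsg.Agent.Lib.Lead.PiCore
open scoped ComplexConjugate

universe u

variable {G : Type u} [Group G]

/-- The centralizer of `P'` inside `H` is the centralizer of its image when the latter lies in
`H`. -/
noncomputable def cIso (H : Subgroup G) (P' : Subgroup H)
    (hC : Subgroup.centralizer ((P'.map H.subtype : Subgroup G) : Set G) ≤ H) :
    ↥(Subgroup.centralizer (P' : Set H))
      ≃* ↥(Subgroup.centralizer ((P'.map H.subtype : Subgroup G) : Set G)) where
  toFun c := ⟨((c : H) : G), by
    rw [Subgroup.mem_centralizer_iff]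
    rintro _ ⟨q, hq, rfl⟩
    have := (Subgroup.mem_centralizer_iff.mp c.2) q hq
    have h2 := congrArg (fun t : H => (t : G)) this
    simpa using h2⟩
  invFun c := ⟨⟨(c : G), hC c.2⟩, by
    rw [Subgroup.mem_centralizer_iff]
    intro q hq
    apply Subtype.ext
    have := (Subgroup.mem_centralizer_iff.mp c.2) (q : G) ⟨q, hq, rfl⟩
    simpa using this⟩
  left_inv c := rfl
  right_inv c := rfl
  map_mul' a b := rfl

theorem cIso_coe (H : Subgroup G) (P' : Subgroup H)
    (hC : Subgroup.centralizer ((P'.map H.subtype : Subgroup G) : Set G) ≤ H)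
    (c : ↥(Subgroup.centralizer (P' : Set H))) :
    ((cIso H P' hC c : ↥(Subgroup.centralizer ((P'.map H.subtype : Subgroup G) : Set G))) : G)
      = ((c : H) : G) := rfl

variable [Fintype G] {M : Ideal AlgInt}

theorem image_irrCongr_symm {Y Y' : Type*} [Group Y] [Group Y'] [Fintype Y] [Fintype Y']
    (ι : Y' ≃* Y) (S : Set (IrrCharacter Y')) :
    irrCongr ι '' (irrCongr ι.symm '' S) = S := by
  rw [Set.image_image]
  have : (fun θ : IrrCharacter Y' => irrCongr ι (irrCongr ι.symm θ)) = id := by
    funext θ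
    apply Subtype.ext
    funext y
    rw [irrCongr_apply, irrCongr_apply, ι.symm_apply_apply]
    rfl
  rw [this, Set.image_id]

/-- A Brauer pair of a block `B₀` of `H` inducing `B` is a Brauer pair of `B`. -/
theorem isBrauerPairOf_map {p : ℕ} [hp : Fact p.Prime] (hM : IsPModular p M) (H : Subgroup G)
    [Fintype H] (P' : Subgroup H)
    (hC : Subgroup.centralizer ((P'.map H.subtype : Subgroup G) : Set G) ≤ H)
    [Fintype (Subgroup.centralizer (P' : Set H))]
    [Fintype (Subgroup.centralizer ((P'.map H.subtype : Subgroup G) : Set G))]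
    (B₀ : Set (IrrCharacter H)) (B : Set (IrrCharacter G))
    (e₀ : Set (IrrCharacter (Subgroup.centralizer (P' : Set H))))
    (h1 : IsBrauerPairOf p M B₀ P' e₀) (h2 : IsInducedBlock M H B₀ B) :
    IsBrauerPairOf p M B (P'.map H.subtype) (irrCongr (cIso H P' hC).symm '' e₀) := by
  classical
  haveI hMp := isPrime_of_isPModular hM
  obtain ⟨⟨hP'p, he₀⟩, hB₀, -⟩ := id h1
  have hi1 := isInducedBlock_of_isBrauerPairOf hM P' B₀ e₀ h1
  have he : IsPBlock M (irrCongr (cIso H P' hC).symm '' e₀) :=
    isPBlock_image_irrCongr _ e₀ he₀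
  have himg := image_irrCongr_symm (cIso H P' hC) e₀
  rw [← himg] at hi1
  have hi2 := isInducedBlock_trans
    (Subgroup.centralizer ((P'.map H.subtype : Subgroup G) : Set G)) H
    (Subgroup.centralizer (P' : Set H)) (cIso H P' hC) (cIso_coe H P' hC)
    (irrCongr (cIso H P' hC).symm '' e₀) he B₀ B hi1 h2
  have hPp : IsPGroup p (P'.map H.subtype) := hP'p.map _
  obtain ⟨B', hB', -⟩ := Cfsg.Agent.S4657.result p M hM (P'.map H.subtype)
    (irrCongr (cIso H P' hC).symm '' e₀) ⟨hPp, he⟩
  have hi3 := isInducedBlock_of_isBrauerPairOf hM (P'.map H.subtype) B' _ hB'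
  have hBB : B' = B := isInducedBlock_unique _ _ B' B hi3 hi2
  rw [← hBB]
  exact hB'

/-- Transport of the kernel property between `H` and `G`. -/
theorem kerProp_map_iff (π : Set ℕ) (H : Subgroup G) (P' : Subgroup H)
    (hC : Subgroup.centralizer ((P'.map H.subtype : Subgroup G) : Set G) ≤ H)
    [Fintype (Subgroup.centralizer (P' : Set H))]
    [Fintype (Subgroup.centralizer ((P'.map H.subtype : Subgroup G) : Set G))]
    (e₀ : Set (IrrCharacter (Subgroup.centralizer (P' : Set H)))) :
    KerProp π (Subgroup.centralizer ((P'.map H.subtype : Subgroup G) : Set G))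
        (irrCongr (cIso H P' hC).symm '' e₀)
      ↔ KerProp π (Subgroup.centralizer (P' : Set H)) e₀ :=
  kerT_iff π (cIso H P' hC).symm e₀

theorem hallProp_map_iff (π : Set ℕ) (H : Subgroup G) (P' : Subgroup H)
    (hC : Subgroup.centralizer ((P'.map H.subtype : Subgroup G) : Set G) ≤ H) :
    HallProp π (Subgroup.centralizer ((P'.map H.subtype : Subgroup G) : Set G))
      ↔ HallProp π (Subgroup.centralizer (P' : Set H)) := by
  classical
  haveI : Fintype (Subgroup.centralizer (P' : Set H)) := Fintype.ofFinite _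
  haveI : Fintype (Subgroup.centralizer ((P'.map H.subtype : Subgroup G) : Set G)) :=
    Fintype.ofFinite _
  exact hallT_iff π (cIso H P' hC).symm

end Cfsg.Agent.H2.BKer
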