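import Mathlib
import Cfsg.Agent.H2.BKer.A6
import Cfsg.Agent.Lib.helper3.SP22
import Cfsg.Agent.S4660

/-!
# The maximal Brauer pair coming from the Brauer correspondent, and the descent theorem
-/

set_option autoImplicit false
set_option linter.style.haveILetI false
set_option linter.unusedSectionVars false

namespace Cfsg.Agent.H2.BKer

open Cfsg Cfsg.Agent.Lib.helper3.Block Cfsg.Agent.Lib.helper3.LocalM Cfsg.Agent.Lib.helper3.Irr
open Cfsg.Agent.Lib.helper3.CharBasic Cfsg.Agent.Lib.helper3.Central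
open Cfsg.Agent.Lib.Lead.PiCore
open scoped ComplexConjugate

universe u

variable {G : Type u} [Group G] [Fintype G] {M : Ideal AlgInt}

/-- The data attached to a block `B` with defect group `D` and Brauer correspondent `B₁`: a
maximal Brauer pair `(P, e)` of `B` with `P = D`, for which the kernel property is equivalent to
`O_{π'}(N_G(D)) ≤ ker B₁`. -/
theorem exists_maximal_pair_aux {p : ℕ} [hp : Fact p.Prime] (hM : IsPModular p M) (π : Set ℕ)
    (hpπ : p ∈ π) (B : Set (IrrCharacter G)) (D : Subgroup G) (hBD : IsDefectGroup p M B D)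
    (N : Subgroup G) (hNdef : N = Subgroup.normalizer (D : Set G))
    (B₁ : Set (IrrCharacter ↥N))
    (hB₁ : IsInducedBlock M N B₁ B)
    (hB₁D : IsDefectGroup p M B₁ (D.subgroupOf N)) :
    ∃ (P : Subgroup G) (e : Set (IrrCharacter (Subgroup.centralizer (P : Set G)))),
      IsMaximalBrauerPair p M B P e ∧
      (KerProp π (Subgroup.centralizer (P : Set G)) e ↔
        ∀ n : ↥N, n ∈ piCore {q | q ∉ π} ↥N → n ∈ blockKer B₁) := by
  classical
  haveI hMp := isPrime_of_isPModular hM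
  have hDN : D ≤ N := hNdef ▸ Subgroup.le_normalizer
  obtain ⟨D', hD'def⟩ : ∃ D' : Subgroup N, D' = D.subgroupOf N := ⟨_, rfl⟩
  haveI hD'n : D'.Normal := by
    rw [hD'def]
    exact (Subgroup.normal_subgroupOf_iff_le_normalizer hDN).mpr (le_of_eq hNdef)
  have hmap : D'.map N.subtype = D := by
    rw [hD'def]
    exact Subgroup.map_subgroupOf_eq_of_le hDN
  have hC : Subgroup.centralizer ((D'.map N.subtype : Subgroup G) : Set G) ≤ N := by
    rw [hmap, hNdef]
    exact Subgroup.centralizer_le_normalizer _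
  haveI : Fintype N := Fintype.ofFinite _
  haveI : Fintype (Subgroup.centralizer (D' : Set N)) := Fintype.ofFinite _
  haveI : Fintype (Subgroup.centralizer ((D'.map N.subtype : Subgroup G) : Set G)) :=
    Fintype.ofFinite _
  rw [← hD'def] at hB₁D
  obtain ⟨e', he'⟩ := exists_isBrauerPairOf_of_isDefectGroup hM B₁ hB₁.1 D' hB₁D
  have hpair := isBrauerPairOf_map hM N D' hC B₁ B e' he' hB₁
  have hPD : IsDefectGroup p M B (D'.map N.subtype) := by
    rw [hmap]
    exact hBD
  refine ⟨D'.map N.subtype, irrCongr (cIso N D' hC).symm '' e',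
    isMaximalBrauerPair_of_isDefectGroup hM B _ _ hPD hpair, ?_⟩
  rw [kerProp_map_iff π N D' hC e']
  constructor
  · intro hk
    exact ker_block_of_kerProp hM π hpπ B₁ D' e' he' hk
  · intro hk
    exact kerProp_of_ker_block hM π hpπ B₁ D' e' he' hk

theorem exists_maximal_pair {p : ℕ} [hp : Fact p.Prime] (hM : IsPModular p M) (π : Set ℕ)
    (hpπ : p ∈ π) (B : Set (IrrCharacter G)) (D : Subgroup G) (hBD : IsDefectGroup p M B D)
    (B₁ : Set (IrrCharacter ↥(Subgroup.normalizer (D : Set G))))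
    (hB₁ : IsInducedBlock M (Subgroup.normalizer (D : Set G)) B₁ B)
    (hB₁D : IsDefectGroup p M B₁ (D.subgroupOf (Subgroup.normalizer (D : Set G)))) :
    ∃ (P : Subgroup G) (e : Set (IrrCharacter (Subgroup.centralizer (P : Set G)))),
      IsMaximalBrauerPair p M B P e ∧
      (KerProp π (Subgroup.centralizer (P : Set G)) e ↔
        ∀ n : ↥(Subgroup.normalizer (D : Set G)),
          n ∈ piCore {q | q ∉ π} ↥(Subgroup.normalizer (D : Set G)) → n ∈ blockKer B₁) :=
  exists_maximal_pair_aux hM π hpπ B D hBD _ rfl B₁ hB₁ hB₁D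

/-- **Descent.**  If `O_{π'}(N_G(D))` lies in the kernel of the Brauer correspondent of `B`, then
`O_{π'}(G₀)` lies in the kernel of every block `B₀` of a subgroup `G₀ ⊇ C_G(D₀)` (`D₀` a defect
group of `B₀`) inducing `B`. -/
theorem descent {p : ℕ} [hp : Fact p.Prime] (hM : IsPModular p M) (π : Set ℕ)
    (hpπ : p ∈ π) (B : Set (IrrCharacter G)) (D : Subgroup G) (hBD : IsDefectGroup p M B D)
    (B₁ : Set (IrrCharacter ↥(Subgroup.normalizer (D : Set G))))
    (hB₁ : IsInducedBlock M (Subgroup.normalizer (D : Set G)) B₁ B)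
    (hB₁D : IsDefectGroup p M B₁ (D.subgroupOf (Subgroup.normalizer (D : Set G))))
    (hker : ∀ n : ↥(Subgroup.normalizer (D : Set G)),
      n ∈ piCore {q | q ∉ π} ↥(Subgroup.normalizer (D : Set G)) → n ∈ blockKer B₁)
    (G₀ : Subgroup G) (B₀ : Set (IrrCharacter ↥G₀)) (hB₀ : IsInducedBlock M G₀ B₀ B)
    (D₀ : Subgroup ↥G₀) (hD₀ : IsDefectGroup p M B₀ D₀)
    (hC : Subgroup.centralizer ((D₀.map G₀.subtype : Subgroup G) : Set G) ≤ G₀) :
    ∀ x : ↥G₀, x ∈ piCore {q | q ∉ π} ↥G₀ → x ∈ blockKer B₀ := by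
  classical
  haveI hMp := isPrime_of_isPModular hM
  haveI : Fintype G₀ := Fintype.ofFinite _
  haveI : Fintype (Subgroup.centralizer (D₀ : Set G₀)) := Fintype.ofFinite _
  haveI : Fintype (Subgroup.centralizer ((D₀.map G₀.subtype : Subgroup G) : Set G)) :=
    Fintype.ofFinite _
  obtain ⟨P, e, hmax, hiff⟩ := exists_maximal_pair hM π hpπ B D hBD B₁ hB₁ hB₁D
  have hkP : KerProp π (Subgroup.centralizer (P : Set G)) e := hiff.mpr hker
  obtain ⟨e₀, he₀⟩ := exists_isBrauerPairOf_of_isDefectGroup hM B₀ hB₀.1 D₀ hD₀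
  have hpair := isBrauerPairOf_map hM G₀ D₀ hC B₀ B e₀ he₀ hB₀
  obtain ⟨x, hx⟩ := Cfsg.Agent.S4660.result p M hM B P (D₀.map G₀.subtype) e
    (irrCongr (cIso G₀ D₀ hC).symm '' e₀) hmax hpair
  have h1 := kerProp_of_subpairLE hM π hpπ _ _ _ _ hx hkP
  have h2 := (kerProp_conjBlock_iff π _ x _).mp h1
  have h3 := (kerProp_map_iff π G₀ D₀ hC e₀).mp h2
  exact ker_block_of_kerProp hM π hpπ B₀ D₀ e₀ he₀ h3

end Cfsg.Agent.H2.BKer
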