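import Mathlib
import Cfsg.Agent.H2.BKer.A7
import Cfsg.Agent.Lib.helper3.SecMain11
import Cfsg.Agent.Lib.helper3.Irr6
import Cfsg.Agent.S0912

/-!
# Values on `y x` with `y` a `p`-element and `x` a `π'`-element of `C_G(y)`
-/

set_option autoImplicit false
set_option linter.style.haveILetI false
set_option linter.unusedSectionVars false

namespace Cfsg.Agent.H2.BKer

open Cfsg Cfsg.Agent.Lib.helper3.Block Cfsg.Agent.Lib.helper3.LocalM Cfsg.Agent.Lib.helper3.Irr
open Cfsg.Agent.Lib.helper3.CharBasic Cfsg.Agent.Lib.helper3.Central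
open Cfsg.Agent.Lib.Lead.PiCore
open scoped ComplexConjugate

universe u

variable {G : Type u} [Group G] [Fintype G] {M : Ideal AlgInt}

open Classical in
theorem sum_blocks_indicator [hMp : M.IsPrime] {Y : Type*} [Group Y] [Fintype Y]
    (ψ : IrrCharacter Y) :
    ∑ b ∈ blocksFinset M Y, (if ψ ∈ b then (1 : ℂ) else 0) = 1 := by
  have hmem : blockOf M (ψ : Y → ℂ) ∈ blocksFinset M Y :=
    (mem_blocksFinset _).mpr ⟨ψ, rfl⟩
  have hψ : ψ ∈ blockOf M (ψ : Y → ℂ) := sameBlock_refl hMp.ne_top _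
  rw [Finset.sum_eq_single_of_mem _ hmem, if_pos hψ]
  intro b hb hne
  rw [if_neg]
  intro hψb
  apply hne
  exact isPBlock_eq_of_mem ((mem_blocksFinset b).mp hb) ⟨ψ, rfl⟩ ψ hψb hψ

/-- A defect group of a block of `C_G(y)`, `y` a `p`-element, contains `y`. -/
theorem centralizer_defect_le {p : ℕ} [hp : Fact p.Prime] (hM : IsPModular p M) (y : G)
    (hy : ∃ k : ℕ, orderOf y = p ^ k)
    (b : Set (IrrCharacter (Subgroup.centralizer ({y} : Set G)))) (hb : IsPBlock M b)
    (D₀ : Subgroup (Subgroup.centralizer ({y} : Set G))) (hD₀ : IsDefectGroup p M b D₀) :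
    Subgroup.centralizer
        ((D₀.map (Subgroup.centralizer ({y} : Set G)).subtype : Subgroup G) : Set G)
      ≤ Subgroup.centralizer ({y} : Set G) := by
  have hyC : y ∈ Subgroup.centralizer ({y} : Set G) :=
    Subgroup.mem_centralizer_singleton_iff.mpr rfl
  obtain ⟨y', hy'⟩ : ∃ y' : Subgroup.centralizer ({y} : Set G), y' = ⟨y, hyC⟩ := ⟨_, rfl⟩
  have hy'coe : (y' : G) = y := by rw [hy']
  have hcore := Cfsg.Agent.S0912.result p M hM b hb D₀ hD₀
  have hz : Subgroup.zpowers y' ≤ pCore p ↥(Subgroup.centralizer ({y} : Set G)) := by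
    apply le_sSup
    constructor
    · constructor
      intro n hn g
      have hcomm : g * n * g⁻¹ = n := by
        obtain ⟨i, rfl⟩ := Subgroup.mem_zpowers_iff.mp hn
        have h1 : g * y' = y' * g := by
          apply Subtype.ext
          push_cast
          rw [hy'coe]
          exact (Subgroup.mem_centralizer_singleton_iff.mp g.2)
        have h2 : Commute g y' := h1
        have h3 := (h2.zpow_right i).eq
        rw [h3, mul_inv_cancel_right]
      rw [hcomm]
      exact hn
    · obtain ⟨k, hk⟩ := hy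
      apply IsPGroup.of_card (n := k)
      rw [Nat.card_zpowers, ← Subgroup.orderOf_coe, hy'coe, hk]
  have hyD : y ∈ D₀.map (Subgroup.centralizer ({y} : Set G)).subtype :=
    ⟨y', hcore (hz (Subgroup.mem_zpowers y')), hy'coe⟩
  intro c hc
  rw [Subgroup.mem_centralizer_singleton_iff]
  exact ((Subgroup.mem_centralizer_iff.mp hc) y hyD).symm

open Classical in
/-- **Values on `π'`-translates.** -/
theorem apply_mul_eq {p : ℕ} [hp : Fact p.Prime] (hM : IsPModular p M) (π : Set ℕ)
    (hpπ : p ∈ π) (B : Set (IrrCharacter G)) (hB : IsPBlock M B) (D : Subgroup G)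
    (hBD : IsDefectGroup p M B D)
    (B₁ : Set (IrrCharacter ↥(Subgroup.normalizer (D : Set G))))
    (hB₁ : IsInducedBlock M (Subgroup.normalizer (D : Set G)) B₁ B)
    (hB₁D : IsDefectGroup p M B₁ (D.subgroupOf (Subgroup.normalizer (D : Set G))))
    (hker : ∀ n : ↥(Subgroup.normalizer (D : Set G)),
      n ∈ piCore {q | q ∉ π} ↥(Subgroup.normalizer (D : Set G)) → n ∈ blockKer B₁)
    (y : G) (hy : ∃ k : ℕ, orderOf y = p ^ k)
    (hC : ∀ x : ↥(Subgroup.centralizer ({y} : Set G)),
      (∀ q : ℕ, q.Prime → q ∣ orderOf x → q ∉ π) →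
        x ∈ piCore {q | q ∉ π} ↥(Subgroup.centralizer ({y} : Set G)))
    (χ : IrrCharacter G) (hχ : χ ∈ B) (x : G) (hx : x ∈ Subgroup.centralizer ({y} : Set G))
    (hxπ : ∀ q : ℕ, q.Prime → q ∣ orderOf x → q ∉ π) :
    (χ : G → ℂ) (y * x) = (χ : G → ℂ) y := by
  haveI hMp := isPrime_of_isPModular hM
  haveI : Fintype (Subgroup.centralizer ({y} : Set G)) := Fintype.ofFinite _
  obtain ⟨k, hk⟩ := hy
  have hχcf := isClassFunction_of_isCharacter (isCharacter_of_isIrrCharacter χ.2)
  have hcomm : ∀ c : Subgroup.centralizer ({y} : Set G), y * (c : G) = (c : G) * y :=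
    fun c => (Subgroup.mem_centralizer_singleton_iff.mp c.2).symm
  obtain ⟨ϑ, hϑ⟩ : ∃ ϑ : Subgroup.centralizer ({y} : Set G) → ℂ,
      ϑ = fun c : Subgroup.centralizer ({y} : Set G) => (χ : G → ℂ) (y * (c : G)) := ⟨_, rfl⟩
  have hϑcf : IsClassFunction (Subgroup.centralizer ({y} : Set G)) ϑ := by
    intro c t
    rw [hϑ]
    show (χ : G → ℂ) (y * ((t * c * t⁻¹ : Subgroup.centralizer ({y} : Set G)) : G))
      = (χ : G → ℂ) (y * (c : G))
    have e1 : y * ((t * c * t⁻¹ : Subgroup.centralizer ({y} : Set G)) : G)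
        = (t : G) * (y * (c : G)) * (t : G)⁻¹ := by
      push_cast
      rw [← mul_assoc, ← mul_assoc, hcomm t]
      group
    rw [e1, hχcf]
  -- the block parts
  obtain ⟨T, hT⟩ : ∃ T : Set (IrrCharacter (Subgroup.centralizer ({y} : Set G))) →
      Subgroup.centralizer ({y} : Set G) → ℂ,
      T = fun b z => ∑ ψ : IrrCharacter (Subgroup.centralizer ({y} : Set G)),
        (if ψ ∈ b then (1 : ℂ) else 0)
          * (classInner ϑ (ψ : Subgroup.centralizer ({y} : Set G) → ℂ)
            * (ψ : Subgroup.centralizer ({y} : Set G) → ℂ) z) := ⟨_, rfl⟩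
  have hexp : ∀ z : Subgroup.centralizer ({y} : Set G),
      ϑ z = ∑ b ∈ blocksFinset M (Subgroup.centralizer ({y} : Set G)), T b z := by
    intro z
    rw [hT]
    simp only
    rw [Finset.sum_comm]
    have h1 : ∀ ψ : IrrCharacter (Subgroup.centralizer ({y} : Set G)),
        ∑ b ∈ blocksFinset M (Subgroup.centralizer ({y} : Set G)),
          (if ψ ∈ b then (1 : ℂ) else 0)
            * (classInner ϑ (ψ : Subgroup.centralizer ({y} : Set G) → ℂ)
              * (ψ : Subgroup.centralizer ({y} : Set G) → ℂ) z)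
        = classInner ϑ (ψ : Subgroup.centralizer ({y} : Set G) → ℂ)
              * (ψ : Subgroup.centralizer ({y} : Set G) → ℂ) z := by
      intro ψ
      rw [← Finset.sum_mul, sum_blocks_indicator, one_mul]
    rw [Finset.sum_congr rfl (fun ψ _ => h1 ψ)]
    have h2 := congrFun (classFunction_eq_sum ϑ hϑcf) z
    rw [Finset.sum_apply] at h2
    simpa using h2
  -- `x` as an element of the centralizer
  obtain ⟨x', hx'⟩ : ∃ x' : Subgroup.centralizer ({y} : Set G), x' = ⟨x, hx⟩ := ⟨_, rfl⟩
  have hx'coe : (x' : G) = x := by rw [hx']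
  have hx'π : ∀ q : ℕ, q.Prime → q ∣ orderOf x' → q ∉ π := by
    intro q hq hdvd
    apply hxπ q hq
    rwa [← Subgroup.orderOf_coe, hx'coe] at hdvd
  have hx'reg : ¬ p ∣ orderOf x' := fun h => hx'π p hp.out h hpπ
  have hx'core := hC x' hx'π
  have hTeq : ∀ b ∈ blocksFinset M (Subgroup.centralizer ({y} : Set G)), T b x' = T b 1 := by
    intro b hb
    have hbB : IsPBlock M b := (mem_blocksFinset b).mp hb
    by_cases hind : IsInducedBlock M (Subgroup.centralizer ({y} : Set G)) b B
    · -- `x'` is in the kernel of `b`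
      obtain ⟨g₀, hg₀⟩ := exists_defectClass hM b hbB
      obtain ⟨S₀⟩ : Nonempty (Sylow p (Subgroup.centralizer
        ({g₀} : Set (Subgroup.centralizer ({y} : Set G))))) := inferInstance
      have hDb : IsDefectGroup p M b
          ((S₀ : Subgroup (Subgroup.centralizer
            ({g₀} : Set (Subgroup.centralizer ({y} : Set G))))).map
            (Subgroup.centralizer ({g₀} : Set (Subgroup.centralizer ({y} : Set G)))).subtype) :=
        ⟨g₀, hg₀, S₀, rfl⟩
      have hCle := centralizer_defect_le hM y ⟨k, hk⟩ b hbB _ hDb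
      have hkerb := descent hM π hpπ B D hBD B₁ hB₁ hB₁D hker
        (Subgroup.centralizer ({y} : Set G)) b hind _ hDb hCle x' hx'core
      rw [hT]
      simp only
      apply Finset.sum_congr rfl
      intro ψ _
      by_cases hψ : ψ ∈ b
      · rw [hkerb ψ hψ]
      · rw [if_neg hψ, zero_mul, zero_mul]
    · have h1 := second_main_char hM y k hk B hB χ hχ b hbB hind x' hx'reg
      have h2 := second_main_char hM y k hk B hB χ hχ b hbB hind 1
        (by rw [orderOf_one]; exact fun h => hp.out.one_lt.ne' (Nat.dvd_one.mp h))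
      rw [hT]
      simp only
      rw [hϑ]
      rw [h1, h2]
  have h3 : ϑ x' = ϑ 1 := by
    rw [hexp x', hexp 1]
    exact Finset.sum_congr rfl hTeq
  rw [hϑ] at h3
  simp only at h3
  rw [hx'coe] at h3
  rw [h3]
  simp

end Cfsg.Agent.H2.BKer
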