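import Mathlib
import Cfsg.Agent.H2.BKer.A7
import Cfsg.Agent.S0912
import Cfsg.Agent.S4655
import Cfsg.Agent.S4658

/-!
# The ascent theorem: from a local block to the Brauer correspondent
-/

set_option autoImplicit false
set_option linter.style.haveILetI false
set_option linter.unusedSectionVars false

namespace Cfsg.Agent.H2.BKer

open Cfsg Cfsg.Agent.Lib.helper3.Block Cfsg.Agent.Lib.helper3.LocalM Cfsg.Agent.Lib.helper3.Irr
open Cfsg.Agent.Lib.helper3.CharBasic Cfsg.Agent.Lib.helper3.Central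
open Cfsg.Agent.Lib.Lead.PiCore
open scoped ComplexConjugate

universe u

variable {G : Type u} [Group G]

/-- The centralizer of `D` computed inside an overgroup `H ⊇ D C_G(D)`. -/
noncomputable def cIso2 (H D : Subgroup G) (hDH : D ≤ H)
    (hCH : Subgroup.centralizer (D : Set G) ≤ H) :
    ↥(Subgroup.centralizer ((D.subgroupOf H : Subgroup H) : Set H))
      ≃* ↥(Subgroup.centralizer (D : Set G)) where
  toFun c := ⟨((c : H) : G), by
    rw [Subgroup.mem_centralizer_iff]
    intro q hq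
    have := (Subgroup.mem_centralizer_iff.mp c.2) ⟨q, hDH hq⟩ (Subgroup.mem_subgroupOf.mpr hq)
    have h2 := congrArg (fun t : H => (t : G)) this
    simpa using h2⟩
  invFun c := ⟨⟨(c : G), hCH c.2⟩, by
    rw [Subgroup.mem_centralizer_iff]
    intro q hq
    apply Subtype.ext
    have := (Subgroup.mem_centralizer_iff.mp c.2) (q : G) (Subgroup.mem_subgroupOf.mp hq)
    simpa using this⟩
  left_inv c := rfl
  right_inv c := rfl
  map_mul' a b := rfl

theorem cIso2_coe (H D : Subgroup G) (hDH : D ≤ H)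
    (hCH : Subgroup.centralizer (D : Set G) ≤ H)
    (c : ↥(Subgroup.centralizer ((D.subgroupOf H : Subgroup H) : Set H))) :
    ((cIso2 H D hDH hCH c : ↥(Subgroup.centralizer (D : Set G))) : G) = ((c : H) : G) := rfl

variable [Fintype G] {M : Ideal AlgInt}

/-- From the block to a Brauer pair on a normal `p`-subgroup, assuming only that the image of
`O_{π'}(C_G(P))` is in the kernel of the block. -/
theorem kerProp_of_ker_block' {p : ℕ} [hp : Fact p.Prime] (hM : IsPModular p M) (π : Set ℕ)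
    (hpπ : p ∈ π) (B : Set (IrrCharacter G)) (P : Subgroup G) [hPn : P.Normal]
    (e : Set (IrrCharacter (Subgroup.centralizer (P : Set G))))
    (hBe : IsBrauerPairOf p M B P e)
    (hk : ∀ x : Subgroup.centralizer (P : Set G),
      x ∈ piCore {q | q ∉ π} ↥(Subgroup.centralizer (P : Set G)) → (x : G) ∈ blockKer B) :
    KerProp π (Subgroup.centralizer (P : Set G)) e := by
  classical
  haveI hMp := isPrime_of_isPModular hM
  haveI : Fintype (Subgroup.centralizer (P : Set G)) := Fintype.ofFinite _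
  obtain ⟨⟨hPp, he⟩, hB, hΛ⟩ := hBe
  obtain ⟨H, hHdef⟩ : ∃ H : Subgroup G, H = coreIm π (Subgroup.centralizer (P : Set G)) :=
    ⟨_, rfl⟩
  haveI hCn : (Subgroup.centralizer (P : Set G)).Normal := Subgroup.normal_centralizer
  haveI hHn : H.Normal := by
    constructor
    intro n hn g
    rw [hHdef] at hn ⊢
    apply coreIm_conj_of_mem_normalizer π _ g _ n hn
    rw [Subgroup.normalizer_eq_top]
    exact Subgroup.mem_top g
  have hHp : ¬ p ∣ Nat.card H := hHdef ▸ not_dvd_card_coreIm π _ hp.out hpπ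
  have hker : ∀ χ ∈ B, ∀ u ∈ H, (χ : G → ℂ) u = (χ : G → ℂ) 1 := by
    intro χ hχ u hu
    rw [hHdef] at hu
    obtain ⟨w, hw, rfl⟩ := hu
    exact hk w hw χ hχ
  have hconv := conv_blockCoeff_unif_of_ker B H hker
  intro x hx ξ hξ
  have hξ' := not_memLocalIdeal_of_sub_one (hΛ ξ hξ)
  have hfin := ker_of_conv_eq_self hM P H hPp
    (fun u _ h hh => hHn.conj_mem h hh u) (fun c _ h hh => hHn.conj_mem h hh c) hHp
    (blockCoeff B) (fun g => osima hM B hB g) (fun u _ g => blockCoeff_conj' B g u)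
    (fun c _ g => blockCoeff_conj' B g c) hconv ξ hξ'
  apply hfin x
  rw [hHdef]
  exact (mem_coreIm_iff π _ x).mpr hx

/-- A Brauer pair of `B` on a normal `p`-subgroup. -/
theorem exists_isBrauerPairOf_of_normal {p : ℕ} [hp : Fact p.Prime] (hM : IsPModular p M)
    (B : Set (IrrCharacter G)) (hB : IsPBlock M B) (P : Subgroup G) [hPn : P.Normal]
    (hP : IsPGroup p P) :
    ∃ e : Set (IrrCharacter (Subgroup.centralizer (P : Set G))), IsBrauerPairOf p M B P e := by
  classical
  haveI hMp := isPrime_of_isPModular hM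
  obtain ⟨g₀, hg₀⟩ := exists_defectClass hM B hB
  obtain ⟨S₀⟩ : Nonempty (Sylow p (Subgroup.centralizer ({g₀} : Set G))) := inferInstance
  obtain ⟨Δ, hΔdef⟩ : ∃ Δ : Subgroup G, Δ = (S₀ : Subgroup (Subgroup.centralizer
      ({g₀} : Set G))).map (Subgroup.centralizer ({g₀} : Set G)).subtype := ⟨_, rfl⟩
  have hΔ : IsDefectGroup p M B Δ := ⟨g₀, hg₀, S₀, hΔdef⟩
  obtain ⟨eΔ, heΔ⟩ := exists_isBrauerPairOf_of_isDefectGroup hM B hB Δ hΔ
  have hcore := Cfsg.Agent.S0912.result p M hM B hB Δ hΔ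
  have hPcore : P ≤ pCore p G := by
    unfold pCore
    exact le_sSup ⟨hPn, hP⟩
  have hPΔ : P ≤ Δ := le_trans hPcore hcore
  obtain ⟨f, ⟨hf, hle⟩, -⟩ := Cfsg.Agent.S4655.result p M hM Δ P eΔ heΔ.1 hPΔ
  exact ⟨f, (Cfsg.Agent.S4658.result p M hM Δ P eΔ f heΔ.1 ⟨hP, hf⟩ hle B hB).mp heΔ⟩

end Cfsg.Agent.H2.BKer
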