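import Mathlib
import Cfsg.Agent.H2.BKer.C1

/-!
# The ascent theorem
-/

set_option autoImplicit false
set_option linter.style.haveILetI false
set_option linter.unusedSectionVars false

namespace Cfsg.Agent.H2.BKer

open Cfsg Cfsg.Agent.Lib.helper3.Block Cfsg.Agent.Lib.helper3.LocalM Cfsg.Agent.Lib.helper3.Irr
open Cfsg.Agent.Lib.helper3.CharBasic Cfsg.Agent.Lib.helper3.Central
open Cfsg.Agent.Lib.Lead.PiCore
open scoped ComplexConjugate

universe u

variable {G : Type u} [Group G] [Fintype G] {M : Ideal AlgInt}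

/-- **Ascent.**  If for a block `b` of `D₀ C_G(D₀)` inducing `B` the normal Hall `π'`-subgroup of
`C_G(D₀)` lies in the kernel of `b`, then `O_{π'}(N_G(D))` lies in the kernel of the Brauer
correspondent of `B`. -/
theorem ascent {p : ℕ} [hp : Fact p.Prime] (hM : IsPModular p M) (π : Set ℕ)
    (hpπ : p ∈ π) (B : Set (IrrCharacter G)) (D : Subgroup G) (hBD : IsDefectGroup p M B D)
    (B₁ : Set (IrrCharacter ↥(Subgroup.normalizer (D : Set G))))
    (hB₁ : IsInducedBlock M (Subgroup.normalizer (D : Set G)) B₁ B)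
    (hB₁D : IsDefectGroup p M B₁ (D.subgroupOf (Subgroup.normalizer (D : Set G))))
    (D₀ : Subgroup G) (hD₀ : IsPGroup p D₀) (H₀ : Subgroup G)
    (hH₀ : H₀ = D₀ ⊔ Subgroup.centralizer (D₀ : Set G))
    (b : Set (IrrCharacter ↥H₀)) (hb : IsInducedBlock M H₀ b B)
    (hcompl : ∀ x : ↥(Subgroup.centralizer (D₀ : Set G)),
      (∀ q : ℕ, q.Prime → q ∣ orderOf x → q ∉ π) →
        x ∈ piCore {q | q ∉ π} ↥(Subgroup.centralizer (D₀ : Set G)))
    (hkerb : ∀ x : ↥(Subgroup.centralizer (D₀ : Set G)),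
      x ∈ piCore {q | q ∉ π} ↥(Subgroup.centralizer (D₀ : Set G)) →
        ∀ θ ∈ b, ∀ h : ↥H₀, (h : G) = (x : G) → (θ : ↥H₀ → ℂ) h = (θ : ↥H₀ → ℂ) 1) :
    ∀ n : ↥(Subgroup.normalizer (D : Set G)),
      n ∈ piCore {q | q ∉ π} ↥(Subgroup.normalizer (D : Set G)) → n ∈ blockKer B₁ := by
  classical
  haveI hMp := isPrime_of_isPModular hM
  have hDH : D₀ ≤ H₀ := hH₀ ▸ le_sup_left
  have hCH : Subgroup.centralizer (D₀ : Set G) ≤ H₀ := hH₀ ▸ le_sup_right
  have hHN : H₀ ≤ Subgroup.normalizer (D₀ : Set G) := by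
    rw [hH₀]
    exact sup_le Subgroup.le_normalizer (Subgroup.centralizer_le_normalizer _)
  haveI : Fintype H₀ := Fintype.ofFinite _
  haveI : Fintype (Subgroup.centralizer ((D₀.subgroupOf H₀ : Subgroup H₀) : Set H₀)) :=
    Fintype.ofFinite _
  haveI : Fintype (Subgroup.centralizer (D₀ : Set G)) := Fintype.ofFinite _
  haveI : Fintype (Subgroup.centralizer
    (((D₀.subgroupOf H₀).map H₀.subtype : Subgroup G) : Set G)) := Fintype.ofFinite _
  haveI hD₀'n : (D₀.subgroupOf H₀).Normal :=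
    (Subgroup.normal_subgroupOf_iff_le_normalizer hDH).mpr hHN
  have hD₀'p : IsPGroup p (D₀.subgroupOf H₀) := hD₀.comap_subtype
  obtain ⟨f₀, hf₀⟩ := exists_isBrauerPairOf_of_normal hM b hb.1 (D₀.subgroupOf H₀) hD₀'p
  -- the local hypotheses read inside `H₀`
  have hHall₀ : HallProp π (Subgroup.centralizer ((D₀.subgroupOf H₀ : Subgroup H₀) : Set H₀)) :=
    (hallT_iff π (cIso2 H₀ D₀ hDH hCH)).mpr hcompl
  have hKer₀ : KerProp π (Subgroup.centralizer ((D₀.subgroupOf H₀ : Subgroup H₀) : Set H₀))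
      f₀ := by
    apply kerProp_of_ker_block' hM π hpπ b (D₀.subgroupOf H₀) f₀ hf₀
    intro x hx θ hθ
    exact hkerb (cIso2 H₀ D₀ hDH hCH x)
      ((mem_piCore_equiv_iff _ (cIso2 H₀ D₀ hDH hCH) x).mpr hx) θ hθ (x : H₀)
      (cIso2_coe H₀ D₀ hDH hCH x).symm
  -- read in `G`
  have hmap : (D₀.subgroupOf H₀).map H₀.subtype = D₀ := Subgroup.map_subgroupOf_eq_of_le hDH
  have hC : Subgroup.centralizer
      (((D₀.subgroupOf H₀).map H₀.subtype : Subgroup G) : Set G) ≤ H₀ := by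
    rw [hmap]
    exact hCH
  have hpair := isBrauerPairOf_map hM H₀ (D₀.subgroupOf H₀) hC b B f₀ hf₀ hb
  have hK := (kerProp_map_iff π H₀ (D₀.subgroupOf H₀) hC f₀).mpr hKer₀
  have hHall := (hallProp_map_iff π H₀ (D₀.subgroupOf H₀) hC).mpr hHall₀
  obtain ⟨P, e, hmax, hiff⟩ := exists_maximal_pair hM π hpπ B D hBD B₁ hB₁ hB₁D
  obtain ⟨x, hx⟩ := Cfsg.Agent.S4660.result p M hM B P ((D₀.subgroupOf H₀).map H₀.subtype) e
    (irrCongr (cIso H₀ (D₀.subgroupOf H₀) hC).symm '' f₀) hmax hpair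
  have hK' := (kerProp_conjBlock_iff π _ x _).mpr hK
  have hHall' := (hallProp_conj_iff π ((D₀.subgroupOf H₀).map H₀.subtype) x).mpr hHall
  obtain ⟨-, hKP⟩ := kerProp_up_of_subpairLE hM π hpπ _ _ _ _ hx hHall' hK'
  exact hiff.mp hKP

end Cfsg.Agent.H2.BKer
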